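import Cfsg.Agent.Lib.ClassSize.FourSizes.Pair
import Cfsg.Agent.Lib.ClassSize.SylowSubset.Basic
import Cfsg.Agent.Lib.PCore.Basic

/-!
# Both `n` and `m` prime powers

`n = q ^ a`, `m = r ^ b`.  Elements of class size `m` lie in `O_q(G)`, or those of class size `n` in
`O_r(G)`; in the first case a Sylow `r`-subgroup acts on an abelian group `V` with all centralisers
of noncentral elements of the same order, which is impossible.
-/

set_option autoImplicit false
set_option linter.style.haveILetI false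
set_option linter.unusedSectionVars false

namespace Cfsg.Agent.ClassSize.FourSizes

open Subgroup Cfsg.Agent.ClassSize.CoprimeTop Cfsg.Agent.ClassSize.TwoSteps

variable {G : Type*} [Group G] [Finite G] {n m q r : ℕ}

/-- `n` is a power of `q` and `m` a power of `r`. -/
structure OnePrime (G : Type*) [Group G] (n m q r : ℕ) : Prop extends AllBad G n m where
  hq : q.Prime
  hr : r.Prime
  honen : ∀ t : ℕ, t.Prime → t ∣ n → t = q
  honem : ∀ t : ℕ, t.Prime → t ∣ m → t = r

theorem OnePrime.swap (S : OnePrime G n m q r) : OnePrime G m n r q :=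
  ⟨S.toAllBad.swap, S.hr, S.hq, S.honem, S.honen⟩

theorem OnePrime.qn (S : OnePrime G n m q r) : q ∣ n := by
  obtain ⟨t, ht, h⟩ := Nat.exists_prime_and_dvd S.hn.ne'
  exact S.honen t ht h ▸ h

theorem OnePrime.rm (S : OnePrime G n m q r) : r ∣ m := S.swap.qn

theorem OnePrime.ne (S : OnePrime G n m q r) : q ≠ r := S.ne_of_dvd S.hq S.qn S.rm

theorem OnePrime.prime_x (S : OnePrime G n m q r) {p : ℕ} {x : G} (hp : p.Prime)
    (hx : IsPEl p x) (hxn : cl x = n) : p = r :=
  S.honem p hp (S.hN p x hp hx hxn)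

theorem OnePrime.pair (S : OnePrime G n m q r) {x y : G} (hx : IsPEl r x) (hxn : cl x = n)
    (hy : IsPEl q y) (hym : cl y = m) (h : x * y = y * x) : Pair G n m r q x y :=
  ⟨S.hr, S.hq, hx, hy, hxn, hym, h⟩

/-- The closure of a `q`-element is a `q`-group if it is commutative. -/
theorem mem_pCore_of_comm {q : ℕ} {y : G} (hy : IsPEl q y)
    (h : normalClosure ({y} : Set G) ≤ cent y) : y ∈ pCore q G := by
  let K : Subgroup G :=
    { carrier := {a | a ∈ normalClosure ({y} : Set G) ∧ IsPEl q a}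
      one_mem' := ⟨one_mem _, 0, by simp⟩
      mul_mem' := fun {a b} ha hb => ⟨mul_mem ha.1 hb.1,
        isPEl_mul (closure_comm_self h ha.1 hb.1) ha.2 hb.2⟩
      inv_mem' := fun {a} ha => ⟨inv_mem ha.1, isPEl_inv ha.2⟩ }
  have hle : normalClosure ({y} : Set G) ≤ K := by
    refine (closure_le _).2 ?_
    intro y' hy'
    refine ⟨subset_closure hy', ?_⟩
    obtain ⟨w, rfl, hw⟩ := Group.mem_conjugatesOfSet_iff.1 hy'
    obtain ⟨d, rfl⟩ := isConj_iff.1 hw
    exact isPEl_conj hy d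
  have hp : IsPGroup q (normalClosure ({y} : Set G)) := fun a => by
    obtain ⟨k, hk⟩ := (hle a.2).2
    exact ⟨k, Subtype.ext (by simpa using hk)⟩
  exact PCore.le_pCore hp (subset_normalClosure rfl)

theorem mem_pCore_of_center {q : ℕ} {z : G} (hz : IsPEl q z) (hzZ : z ∈ center G) :
    z ∈ pCore q G := by
  refine mem_pCore_of_comm hz ?_
  exact (normalClosure_le_normal (Set.singleton_subset_iff.2 hzZ)).trans (center_le_cent z)

theorem commute_cores {p q : ℕ} [Fact p.Prime] [Fact q.Prime] (h : p ≠ q) {a b : G}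
    (ha : a ∈ pCore p G) (hb : b ∈ pCore q G) : a * b = b * a :=
  Subgroup.commute_of_normal_of_disjoint _ _ PCore.pCore_normal PCore.pCore_normal
    (IsPGroup.disjoint_of_ne p q h _ _ PCore.isPGroup_pCore PCore.isPGroup_pCore) a b ha hb

theorem Hyp.pCore_le_cent (S : Hyp G n m) {q : ℕ} [hq : Fact q.Prime] (hqn : q ∣ n) {y : G}
    (hym : cl y = m) : pCore q G ≤ cent y := by
  obtain ⟨Q, hQ⟩ := Transfer.exists_sylow_le_centralizer (p := q) y (by
    show ¬ q ∣ cl y; rw [hym]; exact S.not_dvd_m hq.out hqn)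
  exact (Q.3 (IsPGroup.to_sup_of_normal_left PCore.isPGroup_pCore Q.2) le_sup_right ▸
    le_sup_left : pCore q G ≤ (Q : Subgroup G)).trans hQ

/-- In a commuting pair, `y ∈ O_q(G)` or `x ∈ O_r(G)`. -/
theorem OnePrime.inner_or (S : OnePrime G n m q r) {x y : G} (P : Pair G n m r q x y) :
    y ∈ pCore q G ∨ x ∈ pCore r G := by
  haveI : Fact q.Prime := ⟨S.hq⟩
  haveI : Fact r.Prime := ⟨S.hr⟩
  set B := normalClosure ({y} : Set G)
  by_cases hxB : x ∈ B ⊔ center G
  · refine Or.inr (mem_pCore_of_comm P.hx fun a ha => mem_cent.2 ?_)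
    exact P.swap.comm_of_mem S.toAllBad.swap hxB (subset_normalClosure rfl) ha
  refine Or.inl (mem_pCore_of_comm P.hy ?_)
  have hm0 : m ≠ 0 := by have := S.hm; omega
  obtain ⟨T⟩ := (inferInstance : Nonempty (Sylow r B))
  have hdvd : ((cent y).subgroupOf B).index ∣ m :=
    P.hym ▸ PrimeParts.relIndex_dvd_index_of_normal' (cent y) B
  have hco : (T : Subgroup B).index.Coprime ((cent y).subgroupOf B).index := by
    refine Nat.coprime_of_dvd fun s hs h1 h2 => ?_
    rw [S.honem s hs (h2.trans hdvd)] at h1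
    exact T.not_dvd_index h1
  suffices hT : (T : Subgroup B) ≤ (cent y).subgroupOf B by
    refine subgroupOf_eq_top.1 (index_eq_one.1 ?_)
    exact Nat.eq_one_of_dvd_coprimes hco (index_dvd_of_le hT) dvd_rfl
  have hyB : y ∈ B := subset_normalClosure rfl
  have hcov : (T : Subgroup B) ≤ cent (⟨y, hyB⟩ : B) := by
    refine le_cent_of_cover fun v hv => ?_
    suffices h : ∃ c : B, v * (c * ⟨y, hyB⟩ * c⁻¹) = c * ⟨y, hyB⟩ * c⁻¹ * v by
      obtain ⟨c, hc⟩ := h
      have hco' : (T : Subgroup B).index.Coprime (cent (⟨y, hyB⟩ : B)).index := by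
        rw [show (cent (⟨y, hyB⟩ : B)).index = ((cent y).subgroupOf B).index from
          cl_subtype B ⟨y, hyB⟩]
        exact hco
      obtain ⟨ρ, hρ, f, hf, rfl⟩ := exists_mul_of_coprime hco' c
      refine ⟨ρ, hρ, ?_⟩
      rw [show ρ * f * (⟨y, hyB⟩ : B) * (ρ * f)⁻¹ = ρ * (f * ⟨y, hyB⟩ * f⁻¹) * ρ⁻¹ by group,
        show f * (⟨y, hyB⟩ : B) * f⁻¹ = ⟨y, hyB⟩ by rw [← mem_cent.1 hf, mul_inv_cancel_right]] at hc
      exact hc
    obtain ⟨z, hz, hvz, hn2, W, hWq, hWv, hWx, hWc⟩ := P.swap.exists_split S.toAllBad.swap hxB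
      S.hr S.rm (u := (v : G)) v.2 (isPEl_subtype.1 (isPEl_of_mem T.2 hv)) (s := q) S.qn
    set H := cent (z⁻¹ * x)
    have hBH : B ≤ H := fun b hb => mem_cent.2
      (P.closure_comm S.toAllBad (mul_mem (inv_mem hz.2) (subset_normalClosure rfl)) hb)
    have hWH : W.subgroupOf H ≤ ⊤ := le_top
    have hcard : Nat.card (W.subgroupOf H) = pp q (⊤ : Subgroup H) := by
      rw [Nat.card_congr (subgroupOfEquivOfLe hWx).toEquiv, hWc, pp, pp,
        Nat.card_congr topEquiv.toEquiv]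
    have hWs : IsPGroup q (W.subgroupOf H) :=
      hWq.comap_of_injective H.subtype H.subtype_injective
    let Ws : Sylow q H := Sylow.ofCard (W.subgroupOf H) (by
      rw [hcard, pp, Nat.card_congr topEquiv.toEquiv])
    haveI : (B.subgroupOf H).Normal := inferInstance
    have hWB := card_inf_normal Ws (B.subgroupOf H)
    obtain ⟨R, hR⟩ := SylowCount.exists_sylow_inf Ws (B.subgroupOf H)
    obtain ⟨b, hb⟩ := isPEl_orderOf S.hq P.hy
    obtain ⟨c, hc⟩ := exists_conj_mem S.hq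
      (d := (⟨⟨y, hBH hyB⟩, mem_subgroupOf.2 hyB⟩ : B.subgroupOf H))
      (by rw [orderOf_mk, orderOf_mk]; exact hb) (H := (R : Subgroup (B.subgroupOf H)))
      R.not_dvd_index
    rw [hR, mem_subgroupOf] at hc
    have hcW : ((c : H) : G)⁻¹ * y * ((c : H) : G) ∈ W := mem_subgroupOf.1 hc
    refine ⟨(⟨((c : H) : G), mem_subgroupOf.1 c.2⟩ : B)⁻¹, Subtype.ext ?_⟩
    show (v : G) * (((c : H) : G)⁻¹ * y * ((c : H) : G)⁻¹⁻¹) =
      ((c : H) : G)⁻¹ * y * ((c : H) : G)⁻¹⁻¹ * (v : G)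
    rw [inv_inv]
    have h1 : Commute ((v : G) * z) (((c : H) : G)⁻¹ * y * ((c : H) : G)) :=
      mem_cent.1 (hWv hcW)
    have h2 : Commute z (((c : H) : G)⁻¹ * y * ((c : H) : G)) := by
      refine P.closure_comm S.toAllBad hz.2 ?_
      simpa using (normalClosure_normal (s := ({y} : Set G))).conj_mem y hyB ((c : H) : G)⁻¹
    have h3 := h1.mul_left h2.inv_left
    rw [mul_inv_cancel_right] at h3
    exact h3.eq
  intro v hv
  exact mem_subgroupOf.2 (mem_cent.2 (congrArg Subtype.val (mem_cent.1 (hcov hv))))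

/-! ### Large fixed-point subgroups -/

theorem OnePrime.card_inf (S : OnePrime G n m q r) [hr : Fact r.Prime] (R : Sylow r G)
    {a : G} {H K : Subgroup G} (hRK : (R : Subgroup G) ≤ K) (hHa : H ≤ cent a)
    (hidx : H.relIndex K = m) (ha : m ∣ cl a) :
    Nat.card ↥((R : Subgroup G) ⊓ cent a) = pp r (cent a) := by
  have hm0 : m ≠ 0 := by have := S.hm; omega
  refine le_antisymm (card_le_pp inf_le_right (R.2.to_le inf_le_left)) ?_
  have h1 : H.relIndex (R : Subgroup G) ≤ m :=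
    hidx ▸ relIndex_le_of_le_right hRK (by rw [hidx]; exact hm0)
  have h2 : (cent a).relIndex (R : Subgroup G) ≤ m :=
    (Nat.le_of_dvd (Nat.pos_of_ne_zero index_ne_zero_of_finite)
      (relIndex_dvd_of_le_left (R : Subgroup G) hHa)).trans h1
  have h3 : Nat.card ↥((R : Subgroup G) ⊓ cent a) * (cent a).relIndex (R : Subgroup G) =
      Nat.card (R : Subgroup G) := by
    rw [← inf_relIndex_left, relIndex, ← Nat.card_congr (subgroupOfEquivOfLe
      (inf_le_left : (R : Subgroup G) ⊓ cent a ≤ R)).toEquiv, card_mul_index]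
  have h4 := S.toAllBad.pp_mul S.rm (s := r) ha
  rw [← sylow_card R, ← h3] at h4
  have hmr : r ^ m.factorization r = m := by
    have := Nat.eq_prime_pow_of_unique_prime_dvd hm0 (fun {d} => S.honem d)
    have h' : m.factorization r = m.primeFactorsList.length := by
      conv_lhs => rw [this]
      rw [hr.out.factorization_pow, Finsupp.single_eq_same]
    rw [h', ← this]
  rw [hmr] at h4
  exact Nat.le_of_mul_le_mul_right (h4.le.trans (Nat.mul_le_mul_left _ h2))
    (Nat.pos_of_ne_zero hm0)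

theorem OnePrime.card_inf_m (S : OnePrime G n m q r) [hr : Fact r.Prime] (R : Sylow r G) {a : G}
    (ha : cl a = m) : Nat.card ↥((R : Subgroup G) ⊓ cent a) = pp r (cent a) :=
  S.card_inf R le_top le_rfl (by rw [relIndex_top_right]; exact ha) (ha ▸ dvd_rfl)

theorem OnePrime.card_inf_cent (S : OnePrime G n m q r) [hr : Fact r.Prime] (R : Sylow r G)
    {x a : G} (hx : IsPEl r x) (hxn : cl x = n) (hRx : (R : Subgroup G) ≤ cent x)
    (hax : x * a = a * x) (ha : PiEl n a) (haZ : a ∉ center G) :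
    Nat.card ↥((R : Subgroup G) ⊓ cent a) = pp r (cent a) := by
  have hco := (S.coprime_pi ha (piEl_of_isPEl hr.out S.rm hx)).symm
  have hd := cent_mul_dvd hax hco
  have hnm : cl (x * a) = n * m := S.eq_nm (hxn ▸ hd.1) ((S.m_dvd ha haZ).trans hd.2)
  have hinf := cent_mul_coprime hax hco
  refine S.card_inf R hRx (hinf ▸ inf_le_right : cent (x * a) ≤ cent a) ?_ (S.m_dvd ha haZ)
  have h2 := relIndex_mul_index (hinf ▸ inf_le_left : cent (x * a) ≤ cent x)
  rw [show (cent (x * a)).index = n * m from hnm, show (cent x).index = n from hxn,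
    mul_comm n m] at h2
  exact Nat.eq_of_mul_eq_mul_right (show 0 < n by have := S.hn; omega) h2

theorem AllBad.inf_eq_of_le (S : AllBad G n m) [hr : Fact r.Prime] (hrm : r ∣ m) {R : Subgroup G}
    {a b : G} (ha : Nat.card ↥(R ⊓ cent a) = pp r (cent a))
    (hb : Nat.card ↥(R ⊓ cent b) = pp r (cent b))
    (hma : m ∣ cl a) (hmb : m ∣ cl b) (h : R ⊓ cent a ≤ R ⊓ cent b) :
    R ⊓ cent a = R ⊓ cent b :=
  eq_of_le_of_card_ge h (by rw [ha, hb, S.pp_eq hrm hma hmb])

/-- The coset lemma. -/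
theorem OnePrime.coset (S : OnePrime G n m q r) [hr : Fact r.Prime] [hq : Fact q.Prime]
    (R : Sylow r G) {x y : G} (hx : IsPEl r x) (hxn : cl x = n) (hRx : (R : Subgroup G) ≤ cent x)
    (hy : IsPEl q y) (hxy : x * y = y * x) {B : Subgroup G} [B.Normal] (hB : IsPGroup q B)
    (hBx : B ≤ cent x) (hBy : B ≤ cent y) (hnc : ∀ b ∈ B, y * b ∉ center G) {b : G} (hb : b ∈ B)
    (hbZ : b ∉ center G) : (R : Subgroup G) ⊓ cent b = (R : Subgroup G) ⊓ cent y := by
  set Rc := (R : Subgroup G) ⊓ (cent (QuotientGroup.mk' B y)).comap (QuotientGroup.mk' B)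
  have hq' : ∀ a ∈ B, IsPEl q a := fun a ha => isPEl_of_mem hB ha
  have hexact : ∀ a ∈ B, Nat.card ↥((R : Subgroup G) ⊓ cent (y * a)) = pp r (cent (y * a)) ∧
      m ∣ cl (y * a) := by
    intro a ha
    have hcomm : y * a = a * y := mem_cent.1 (hBy ha)
    have hpi := piEl_of_isPEl hq.out S.qn (isPEl_mul hcomm hy (hq' a ha))
    exact ⟨S.card_inf_cent R hx hxn hRx
      ((show Commute x y from hxy).mul_right (mem_cent.1 (hBx ha))).eq hpi (hnc a ha),
      S.m_dvd hpi (hnc a ha)⟩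
  have hle : ∀ a ∈ B, (R : Subgroup G) ⊓ cent (y * a) ≤ Rc := by
    rintro a ha g ⟨hg, hga⟩
    refine ⟨hg, mem_comap.2 (mem_cent.2 ?_)⟩
    have h1 := congrArg (QuotientGroup.mk' B) (mem_cent.1 hga)
    have h2 : QuotientGroup.mk' B a = 1 := (QuotientGroup.eq_one_iff a).2 ha
    simp only [map_mul, h2, mul_one] at h1
    exact h1
  have hinv : ∀ (g : Rc) (w : {w : G // ∃ a ∈ B, w = y * a}),
      ∃ a ∈ B, (g : G) * (w : G) * (g : G)⁻¹ = y * a := by
    rintro g ⟨_, a, ha, rfl⟩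
    refine ⟨y⁻¹ * ((g : G) * (y * a) * (g : G)⁻¹), (QuotientGroup.eq_one_iff _).1 ?_,
      (mul_inv_cancel_left _ _).symm⟩
    have hg2 := mem_cent.1 (mem_comap.1 g.2.2)
    have h2 : QuotientGroup.mk' B a = 1 := (QuotientGroup.eq_one_iff a).2 ha
    show QuotientGroup.mk' B (y⁻¹ * ((g : G) * (y * a) * (g : G)⁻¹)) = 1
    rw [map_mul, map_inv, map_mul, map_mul, map_mul, map_inv, h2, mul_one, ← hg2]
    group
  letI : MulAction Rc {w : G // ∃ a ∈ B, w = y * a} :=
    { smul := fun g w => ⟨(g : G) * (w : G) * (g : G)⁻¹, hinv g w⟩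
      one_smul := fun w => Subtype.ext (by
        show ((1 : Rc) : G) * (w : G) * ((1 : Rc) : G)⁻¹ = (w : G)
        simp)
      mul_smul := fun g h w => Subtype.ext (by
        show ((g * h : Rc) : G) * (w : G) * ((g * h : Rc) : G)⁻¹ =
          (g : G) * ((h : G) * (w : G) * (h : G)⁻¹) * (g : G)⁻¹
        simp [mul_assoc]) }
  have hcard : Nat.card {w : G // ∃ a ∈ B, w = y * a} = Nat.card B := by
    refine Nat.card_congr (Equiv.symm (Equiv.ofBijective (fun a : B => ⟨y * a, a, a.2, rfl⟩)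
      ⟨fun a b e => Subtype.ext (mul_left_cancel (congrArg Subtype.val e)), ?_⟩))
    rintro ⟨_, a, ha, rfl⟩
    exact ⟨⟨a, ha⟩, rfl⟩
  obtain ⟨⟨_, a, ha, rfl⟩, hfix⟩ :=
    (R.2.to_le (inf_le_left : Rc ≤ R)).nonempty_fixed_point_of_prime_not_dvd_card
    {w : G // ∃ a ∈ B, w = y * a} (by
      obtain ⟨k, hk⟩ := IsPGroup.iff_card.1 hB
      rw [hcard, hk]
      exact fun h => S.ne ((Nat.prime_dvd_prime_iff_eq hr.out hq.out).1
        (hr.out.dvd_of_dvd_pow h)).symm)
  have hRc : Rc = (R : Subgroup G) ⊓ cent (y * a) := by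
    refine le_antisymm (fun g hg => ⟨hg.1, mem_cent.2 ?_⟩) (hle a ha)
    have h1 : g * (y * a) * g⁻¹ = y * a := congrArg Subtype.val (hfix ⟨g, hg⟩)
    exact (mul_inv_eq_iff_eq_mul.1 h1).symm
  have hall : ∀ c ∈ B, Rc = (R : Subgroup G) ⊓ cent (y * c) := fun c hc =>
    hRc.trans (S.toAllBad.inf_eq_of_le S.rm (hexact c hc).1 (hexact a ha).1 (hexact c hc).2
      (hexact a ha).2 (hRc ▸ hle c hc)).symm
  have he : (R : Subgroup G) ⊓ cent (y * b) = (R : Subgroup G) ⊓ cent y := by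
    rw [← hall b hb, hall 1 (one_mem _), mul_one]
  have hpi := piEl_of_isPEl hq.out S.qn (hq' b hb)
  refine (S.toAllBad.inf_eq_of_le S.rm ?_
    (S.card_inf_cent R hx hxn hRx (mem_cent.1 (hBx hb)) hpi hbZ) ?_ (S.m_dvd hpi hbZ) ?_).symm
  · rw [← mul_one y]; exact (hexact 1 (one_mem _)).1
  · rw [← mul_one y]; exact (hexact 1 (one_mem _)).2
  · intro g hg
    refine ⟨hg.1, mem_cent.2 ?_⟩
    have h2 : Commute y g := mem_cent.1 hg.2
    have h3 : Commute (y * b) g := mem_cent.1 (he.ge hg).2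
    have h4 := h2.inv_left.mul_left h3
    rw [inv_mul_cancel_left] at h4
    exact h4.eq

/-- Either all `m`-elements lie in `O_q(G)` or all `n`-elements in `O_r(G)`. -/
theorem OnePrime.all_inner (S : OnePrime G n m q r) :
    (∀ y : G, IsPEl q y → cl y = m → y ∈ pCore q G) ∨
      (∀ x : G, IsPEl r x → cl x = n → x ∈ pCore r G) := by
  haveI : Fact q.Prime := ⟨S.hq⟩
  haveI : Fact r.Prime := ⟨S.hr⟩
  by_contra! hne
  obtain ⟨⟨y, hy, hym, hyS⟩, x, hx, hxn, hxV⟩ := hne
  obtain ⟨y₀, hy₀, hy₀m, hc₀⟩ := S.exists_pair S.hr hx hxn hy hym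
  obtain ⟨x₀, hx₀, hx₀n, hc₁⟩ := S.toAllBad.swap.exists_pair S.hq hy hym hx hxn
  have hy₀S : y₀ ∈ pCore q G := (S.inner_or (S.pair hx hxn hy₀ hy₀m hc₀)).resolve_right hxV
  have hx₀V : x₀ ∈ pCore r G := (S.inner_or (S.pair hx₀ hx₀n hy hym hc₁.symm)).resolve_left hyS
  obtain ⟨R, hR⟩ := Transfer.exists_sylow_le_centralizer (p := r) x₀ (by
    show ¬ r ∣ cl x₀; rw [hx₀n]; exact S.swap.not_dvd_m S.hr S.rm)
  obtain ⟨c, hcR, hc⟩ := exists_conj_central hx (hxn ▸ S.swap.not_dvd_m S.hr S.rm) R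
  set x' := c * x * c⁻¹
  have hx'V : x' ∉ pCore r G := fun h => hxV (by
    have := PCore.pCore_normal.conj_mem x' h c⁻¹
    rwa [show c⁻¹ * x' * c⁻¹⁻¹ = x by simp [x', mul_assoc]] at this)
  have hc₀' : x' * y₀ = y₀ * x' := commute_all_left (by rw [hxn, hy₀m]; exact S.hco) hc₀ c
  have hy₀Z : y₀ ∉ center G := S.notMem_center_of (Or.inr (Or.inl hy₀m))
  have he := S.coset R hx₀ hx₀n hR hy hc₁.symm (B := pCore q G) PCore.isPGroup_pCore
    (fun b hb => mem_cent.2 (commute_cores S.ne hb hx₀V).symm)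
    (S.pCore_le_cent S.qn hym) (fun b hb h => hyS ?_) hy₀S hy₀Z
  · have h1 : x' ∈ (R : Subgroup G) ⊓ cent y₀ := ⟨hcR, mem_cent.2 hc₀'.symm⟩
    rw [he] at h1
    exact ((S.inner_or (S.pair (isPEl_conj hx c) ((cl_conj x c).trans hxn) hy hym
      (mem_cent.1 h1.2).symm)).resolve_right hx'V) |> hyS
  · have hyb : y * b = b * y := mem_cent.1 (S.pCore_le_cent S.qn hym hb)
    have h2 := mul_mem (mem_pCore_of_center
      (isPEl_mul hyb hy (isPEl_of_mem PCore.isPGroup_pCore hb)) h) (inv_mem hb)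
    rwa [mul_inv_cancel_right] at h2

/-- Norm trick: `z` fixes `a` and moves `b`, yet would have to fix `a * b`. -/
theorem AllBad.false_of_norm (S : AllBad G n m) [hr : Fact r.Prime] (hrm : r ∣ m)
    {R V : Subgroup G} [hVc : IsMulCommutative V] {z a b : G} (hzV : z ∈ normalizer (V : Set G))
    (hzr : IsPEl r z) (hzR : z ∈ R) (hqV : IsPGroup q V) (hq : q.Prime) (hqr : q ≠ r)
    (hex : ∀ v ∈ V, v ∉ center G → z * v = v * z →
      Nat.card ↥(R ⊓ cent v) = pp r (cent v) ∧ m ∣ cl v)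
    (hcomm : ∀ g ∈ R, ∀ v ∈ V, g * v = v * g → g * (z * v * z⁻¹) = z * v * z⁻¹ * g)
    (ha : a ∈ V) (hza : z * a = a * z) (haZ : a ∉ center G) (hb : b ∈ V)
    (hzb : ¬ z * b = b * z) (hexb : Nat.card ↥(R ⊓ cent b) = pp r (cent b) ∧ m ∣ cl b)
    (hexab : Nat.card ↥(R ⊓ cent (a * b)) = pp r (cent (a * b)) ∧ m ∣ cl (a * b)) : False := by
  letI : CommGroup V := IsMulCommutative.instCommGroup
  set φ : MulAut V :=
    { toFun := fun v => ⟨z * (v : G) * z⁻¹, (mem_normalizer_iff.1 hzV v).1 v.2⟩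
      invFun := fun v => ⟨z⁻¹ * (v : G) * z, ((mem_normalizer_iff''.1 hzV) (v : G)).1 v.2⟩
      left_inv := fun v => Subtype.ext (by simp [mul_assoc])
      right_inv := fun v => Subtype.ext (by simp [mul_assoc])
      map_mul' := fun v w => Subtype.ext (by simp [mul_assoc]) } with hφ
  have hpow : ∀ (i : ℕ) (v : V), (((φ ^ i) v : V) : G) = z ^ i * (v : G) * (z ^ i)⁻¹ := by
    intro i
    induction i with
    | zero => intro v; simp
    | succ i ih =>
      intro v
      rw [pow_succ, MulAut.mul_apply, ih, pow_succ]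
      simp [hφ, mul_assoc]
  set o := orderOf z
  have ho : φ ^ o = 1 := MulEquiv.ext fun v => Subtype.ext (by
    rw [hpow, pow_orderOf_eq_one]; simp)
  let N : V → V := SylowSubset.norm o φ
  have hNfix : ∀ v : V, z * (N v : G) = (N v : G) * z := fun v => by
    have := congrArg Subtype.val (SylowSubset.norm_fixed ho v)
    exact mul_inv_eq_iff_eq_mul.1 this
  have hNg : ∀ g ∈ R, ∀ v : V, g * (v : G) = (v : G) * g → g * (N v : G) = (N v : G) * g := by
    intro g hg v hgv
    have hmem : ∀ i, g * (((φ ^ i) v : V) : G) = (((φ ^ i) v : V) : G) * g := by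
      intro i
      induction i with
      | zero => simpa using hgv
      | succ i ih =>
        rw [pow_succ', MulAut.mul_apply]
        exact hcomm g hg _ ((φ ^ i) v).2 ih
    have hN : N v ∈ (cent g).subgroupOf V := by
      refine Subgroup.prod_mem _ fun i _ => mem_subgroupOf.2 (mem_cent.2 (hmem i))
    exact mem_cent.1 (mem_subgroupOf.1 hN)
  have key : ∀ v : V, (v : G) ∉ center G → Nat.card ↥(R ⊓ cent (v : G)) = pp r (cent (v : G)) →
      m ∣ cl (v : G) → (N v : G) ∉ center G → z * (v : G) = (v : G) * z := by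
    intro v _ hv hmv hN
    obtain ⟨h1, h2⟩ := hex _ (N v).2 hN (hNfix v)
    have he : R ⊓ cent (v : G) = R ⊓ cent (N v : G) := S.inf_eq_of_le hrm hv h1 hmv h2
      (fun g hg => ⟨hg.1, mem_cent.2 (hNg g hg.1 v (mem_cent.1 hg.2).symm).symm⟩)
    have hz : z ∈ R ⊓ cent (v : G) := he.ge ⟨hzR, mem_cent.2 (hNfix v).symm⟩
    exact (mem_cent.1 hz.2).symm
  set va : V := ⟨a, ha⟩
  set vb : V := ⟨b, hb⟩
  have hbZ : b ∉ center G := fun h => hzb (mem_center_iff.1 h z)
  have hNb : (N vb : G) ∈ center G := by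
    by_contra h
    exact hzb (key vb hbZ hexb.1 hexb.2 h)
  have hmulN : N (va * vb) = N va * N vb := by
    simp only [N, SylowSubset.norm, map_mul, Finset.prod_mul_distrib]
  have hNa : N va = va ^ o := by
    have hone : ∀ i, (φ ^ i) va = va := by
      intro i
      refine Subtype.ext ?_
      rw [hpow]
      show z ^ i * a * (z ^ i)⁻¹ = a
      rw [((show Commute z a from hza).pow_left i).eq, mul_inv_cancel_right]
    simp only [N, SylowSubset.norm, hone, Finset.prod_const, Finset.card_range]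
  have hNZ : (N (va * vb) : G) ∉ center G := by
    intro h
    rw [hmulN, hNa] at h
    have h1 : a ^ o ∈ center G := by
      have := mul_mem h (inv_mem hNb)
      simpa [va] using this
    obtain ⟨i, hi⟩ := isPEl_orderOf hq (isPEl_of_mem hqV ha)
    obtain ⟨j, hj⟩ := isPEl_orderOf hr.out hzr
    obtain ⟨e, he⟩ := exists_pow_eq_self_of_coprime (x := a) (n := o) (by
      rw [show o = r ^ j from hj, hi]
      exact Nat.Coprime.pow _ _ ((Nat.coprime_primes hr.out hq).2 hqr.symm))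
    exact haZ (he ▸ pow_mem h1 e)
  have habZ : a * b ∉ center G := fun h => hzb (by
    have h1 : Commute z (a * b) := mem_center_iff.1 h z
    have h2 := (show Commute z a from hza).inv_right.mul_right h1
    rwa [inv_mul_cancel_left] at h2)
  have h3 : Commute z (a * b) := key (va * vb) habZ hexab.1 hexab.2 hNZ
  have h4 := (show Commute z a from hza).inv_right.mul_right h3
  rw [inv_mul_cancel_left] at h4
  exact hzb h4

end Cfsg.Agent.ClassSize.FourSizes
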