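import Cfsg.Agent.Lib.ClassSize.FourSizes.Multi
import Cfsg.Agent.Lib.ClassSize.FourSizes.Single

/-!
# Class sizes `{1, n, m, n * m}`, `(n, m) = 1`: the group is nilpotent
-/

set_option autoImplicit false
set_option linter.style.haveILetI false
set_option linter.unusedSectionVars false

namespace Cfsg.Agent.ClassSize.FourSizes

open Subgroup Cfsg.Agent.ClassSize.CoprimeTop Cfsg.Agent.ClassSize.TwoSteps

variable {G : Type*} [Group G] [Finite G] {n m q r : ℕ}

theorem OnePrime.exists_elem (S : OnePrime G n m q r) :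
    ∃ x : G, IsPEl r x ∧ cl x = n := by
  obtain ⟨g, hg⟩ := S.ex_n
  obtain ⟨p, hp, x, -, hx, hxn⟩ := S.exists_primary hg
  exact ⟨x, S.prime_x hp hx hxn ▸ hx, hxn⟩

/-- The case that all `m`-elements lie in `O_q(G)`. -/
theorem OnePrime.false_of_inner (S : OnePrime G n m q r)
    (hin : ∀ y : G, IsPEl q y → cl y = m → y ∈ pCore q G) : False := by
  haveI : Fact q.Prime := ⟨S.hq⟩
  haveI : Fact r.Prime := ⟨S.hr⟩
  set V1 := pCore q G ⊓ centralizer ((pCore q G : Subgroup G) : Set G)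
  have hV1 : ∀ y : G, IsPEl q y → cl y = m → y ∈ V1 := fun y hy hym =>
    ⟨hin y hy hym, mem_centralizer_iff.2 fun a ha =>
      (mem_cent.1 (S.pCore_le_cent S.qn hym ha)).symm⟩
  have hV1n : V1.Normal := inferInstance
  haveI hV1c : IsMulCommutative V1 := ⟨⟨fun a b =>
    Subtype.ext (mem_centralizer_iff.1 b.2.2 a a.2.1)⟩⟩
  have hV1p : IsPGroup q V1 := PCore.isPGroup_pCore.to_le inf_le_left
  obtain ⟨x₁, hx₁, hx₁n⟩ := S.exists_elem
  obtain ⟨R⟩ := (inferInstance : Nonempty (Sylow r G))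
  obtain ⟨c, hxR, hRx⟩ := exists_conj_central hx₁ (hx₁n ▸ S.swap.not_dvd_m S.hr S.rm) R
  set x := c * x₁ * c⁻¹
  have hx : IsPEl r x := isPEl_conj hx₁ c
  have hxn : cl x = n := (cl_conj x₁ c).trans hx₁n
  have hexV : ∀ v ∈ V1, v ∉ center G → x * v = v * x →
      Nat.card ↥((R : Subgroup G) ⊓ cent v) = pp r (cent v) ∧ m ∣ cl v := fun v hv hvZ hxv =>
    have hpi := piEl_of_isPEl S.hq S.qn (isPEl_of_mem hV1p hv)
    ⟨S.card_inf_cent R hx hxn hRx hxv hpi hvZ, S.m_dvd hpi hvZ⟩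
  obtain ⟨g, hg⟩ := S.swap.ex_n
  obtain ⟨t, ht, y₁, -, hy₁, hy₁m⟩ := S.swap.exists_primary hg
  have hy₁q : IsPEl q y₁ := S.honen t ht (S.hM t y₁ ht hy₁ hy₁m) ▸ hy₁
  obtain ⟨y, hy, hym, hxy⟩ := S.exists_pair S.hr hx hxn hy₁q hy₁m
  have hqm : ¬ q ∣ m := S.not_dvd_m S.hq S.qn
  have hyZ : y ∉ center G := S.notMem_center_of (Or.inr (Or.inl hym))
  -- `x` centralises all `m`-elements
  have hall : ∀ y' : G, IsPEl q y' → cl y' = m → x * y' = y' * x := by
    intro y' hy' hy'm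
    obtain ⟨Q, hyQ, hQy⟩ := exists_sylow_central hy (hym ▸ hqm)
    obtain ⟨d, hdQ, hQd⟩ := exists_conj_central hy' (hy'm ▸ hqm) Q
    suffices h : x * (d * y' * d⁻¹) = d * y' * d⁻¹ * x by
      have h2 := commute_all (a := x) (b := d * y' * d⁻¹)
        (by rw [hxn, cl_conj, hy'm]; exact S.hco) h 1 d⁻¹
      simpa [mul_assoc] using h2
    set w := d * y' * d⁻¹
    have hw : IsPEl q w := isPEl_conj hy' d
    have hwm : cl w = m := (cl_conj y' d).trans hy'm
    have hyw : y * w = w * y := mem_cent.1 (hQy hdQ)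
    by_contra hne
    by_cases hc : y * w ∈ center G
    · have h3 := (show Commute x y from hxy).inv_right.mul_right
        (show Commute x (y * w) from mem_center_iff.1 hc x)
      rw [inv_mul_cancel_left] at h3
      exact hne h3
    have hpi := piEl_of_isPEl S.hq S.qn (isPEl_mul hyw hy hw)
    have hywm : cl (y * w) = m := (S.toAllBad.m_or_nm (S.m_dvd hpi hc)).resolve_right fun h =>
      Q.not_dvd_index ((dvd_mul_of_dvd_left S.qn m).trans (h.symm.dvd.trans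
        (index_dvd_of_le fun a ha => mem_cent.2
          ((show Commute y a from mem_cent.1 (hQy ha)).mul_left (mem_cent.1 (hQd ha))).eq)))
    refine S.toAllBad.false_of_norm (R := (R : Subgroup G)) (V := V1) S.rm
      (z := x) (a := y) (b := w) (by rw [normalizer_eq_top]; exact mem_top _) hx hxR hV1p S.hq
      S.ne hexV ?_ (hV1 y hy hym) hxy hyZ (hV1 w hw hwm) hne
      ⟨S.card_inf_m R hwm, hwm ▸ dvd_rfl⟩ ⟨S.card_inf_m R hywm, hywm ▸ dvd_rfl⟩
    intro g hg v _ hgv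
    have h1 : Commute g x := (mem_cent.1 (hRx hg)).symm
    exact ((h1.mul_right (show Commute g v from hgv)).mul_right h1.inv_right).eq
  -- `R` acts on `V2`
  set V2 := V1 ⊓ cent x
  haveI : IsMulCommutative V2 := ⟨⟨fun a b =>
    Subtype.ext (mem_centralizer_iff.1 b.2.1.2 a a.2.1.1)⟩⟩
  have hV2p : IsPGroup q V2 := hV1p.to_le inf_le_left
  have hex2 : ∀ v ∈ V2, v ∉ center G →
      Nat.card ↥((R : Subgroup G) ⊓ cent v) = pp r (cent v) ∧ m ∣ cl v := fun v hv hvZ =>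
    hexV v hv.1 hvZ (mem_cent.1 hv.2)
  have hV2R : ∀ g ∈ (R : Subgroup G), ∀ v ∈ V2, g * v * g⁻¹ ∈ V2 := fun g hg v hv => by
    refine ⟨hV1n.conj_mem v hv.1 g, mem_cent.2 ?_⟩
    have h1 : Commute x g := mem_cent.1 (hRx hg)
    exact ((h1.mul_right (show Commute x v from mem_cent.1 hv.2)).mul_right h1.inv_right).eq
  have hRN : (R : Subgroup G) ≤ normalizer (V2 : Set G) := fun g hg =>
    mem_normalizer_iff.2 fun v => ⟨hV2R g hg v, fun h => by
      simpa [mul_assoc] using hV2R g⁻¹ (inv_mem hg) _ h⟩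
  have hy2 : y ∈ V2 := ⟨hV1 y hy hym, mem_cent.2 hxy⟩
  set K := (centralizer (V2 : Set G)).subgroupOf (R : Subgroup G)
  have hKne : K ≠ ⊤ := fun h => by
    refine R.not_dvd_index ((hym ▸ S.rm : r ∣ cl y).trans (index_dvd_of_le fun g hg => ?_))
    have h1 : (⟨g, hg⟩ : (R : Subgroup G)) ∈ K := h ▸ mem_top _
    exact mem_cent.2 (mem_centralizer_iff.1 (mem_subgroupOf.1 h1) y hy2)
  haveI : K.Normal := by
    refine ⟨fun a ha g => mem_subgroupOf.2 (mem_centralizer_iff.2 fun v hv => ?_)⟩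
    have h1 := mem_centralizer_iff.1 (mem_subgroupOf.1 ha) _ (hV2R (g : G)⁻¹ (inv_mem g.2) v hv)
    show v * ((g : G) * a * (g : G)⁻¹) = (g : G) * a * (g : G)⁻¹ * v
    calc v * ((g : G) * a * (g : G)⁻¹) =
          (g : G) * ((g : G)⁻¹ * v * (g : G)⁻¹⁻¹ * a) * (g : G)⁻¹ := by group
      _ = (g : G) * ((a : G) * ((g : G)⁻¹ * v * (g : G)⁻¹⁻¹)) * (g : G)⁻¹ := by rw [h1]
      _ = (g : G) * a * (g : G)⁻¹ * v := by group
  haveI : Nontrivial ((R : Subgroup G) ⧸ K) := by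
    rw [← Finite.one_lt_card_iff_nontrivial, ← index_eq_card]
    exact one_lt_index_of_ne_top hKne
  have hRq : IsPGroup r ((R : Subgroup G) ⧸ K) := R.2.to_quotient K
  haveI := hRq.center_nontrivial
  obtain ⟨⟨zb, hzb⟩, hz1⟩ := exists_ne (1 : center ((R : Subgroup G) ⧸ K))
  obtain ⟨z', rfl⟩ := QuotientGroup.mk'_surjective K zb
  have hzK : z' ∉ K := fun h => hz1 (Subtype.ext ((QuotientGroup.eq_one_iff z').2 h))
  set z : G := Subtype.val z'
  have hzR : z ∈ (R : Subgroup G) := z'.2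
  have hzC : z ∉ centralizer (V2 : Set G) := fun h => hzK (mem_subgroupOf.2 h)
  have hzr : IsPEl r z := isPEl_of_mem R.2 hzR
  have hzZ : z ∉ center G := fun h => hzC (center_le_centralizer _ h)
  obtain ⟨u, hu, huq, huZ⟩ :=
    S.exists_commuting (t := q) S.qn (S.n_dvd (piEl_of_isPEl S.hr S.rm hzr) hzZ)
  obtain ⟨a, haq, ham, hza⟩ : ∃ a, IsPEl q a ∧ cl a = m ∧ z * a = a * z := by
    rcases S.cl_cases S.hq S.qn huq huZ with h | h
    · exact ⟨u, huq, h, mem_cent.1 hu⟩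
    have hle : cent u ≤ cent z :=
      S.max_le h (mem_cent.1 hu).symm (coprime_primary S.hq S.hr S.ne huq hzr)
    obtain ⟨Q, hQ⟩ := huq.isPGroup_zpowers.exists_le_sylow
    obtain ⟨d, -, hd⟩ := exists_conj_central hy (hym ▸ hqm) Q
    exact ⟨_, isPEl_conj hy d, (cl_conj y d).trans hym,
      mem_cent.1 (hle (cent_comm.1 (hd (hQ (mem_zpowers u)))))⟩
  have ha2 : a ∈ V2 := ⟨hV1 a haq ham, mem_cent.2 (hall a haq ham)⟩
  obtain ⟨b, hb, hzb'⟩ : ∃ b ∈ V2, ¬ z * b = b * z := by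
    by_contra! h
    exact hzC (mem_centralizer_iff.2 fun b hb => (h b hb).symm)
  have hbZ : b ∉ center G := fun h => hzb' (mem_center_iff.1 h z)
  have habZ : a * b ∉ center G := fun h => hzb' (by
    have h1 : Commute z (a * b) := mem_center_iff.1 h z
    have h2 := (show Commute z a from hza).inv_right.mul_right h1
    rwa [inv_mul_cancel_left] at h2)
  refine S.toAllBad.false_of_norm (R := (R : Subgroup G)) (V := V2) S.rm (hRN hzR) hzr hzR hV2p
    S.hq S.ne (fun v hv hvZ _ => hex2 v hv hvZ) ?_ ha2 hza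
    (S.notMem_center_of (Or.inr (Or.inl ham))) hb hzb' (hex2 b hb hbZ)
    (hex2 _ (mul_mem ha2 hb) habZ)
  intro g hg v hv hgv
  have hk : (g * z)⁻¹ * (z * g) ∈ centralizer (V2 : Set G) := by
    have h1 := QuotientGroup.eq.1 (mem_center_iff.1 hzb (QuotientGroup.mk' K ⟨g, hg⟩) :
      ((⟨g, hg⟩ * z' : (R : Subgroup G)) : (R : Subgroup G) ⧸ K) = ↑(z' * ⟨g, hg⟩))
    exact mem_subgroupOf.1 h1
  have h2 := mem_centralizer_iff.1 hk v hv
  calc g * (z * v * z⁻¹) = g * z * (v * ((g * z)⁻¹ * (z * g))) * g⁻¹ * z⁻¹ * g := by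
        rw [mul_assoc (g * z) _ g⁻¹]; group
    _ = g * z * ((g * z)⁻¹ * (z * g) * v) * g⁻¹ * z⁻¹ * g := by rw [h2]
    _ = z * (g * v) * g⁻¹ * z⁻¹ * g := by group
    _ = z * v * z⁻¹ * g := by rw [hgv]; group

theorem OnePrime.false (S : OnePrime G n m q r) : False :=
  S.all_inner.elim S.false_of_inner S.swap.false_of_inner

/-- Some good element exists. -/
theorem AllBad.false (S : AllBad G n m) : False := by
  obtain ⟨g, hg⟩ := S.ex_n
  obtain ⟨p, hp, x, -, hx, hxn⟩ := S.exists_primary hg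
  obtain ⟨g', hg'⟩ := S.toHyp.swap.ex_n
  obtain ⟨q, hq, y₁, -, hy₁, hy₁m⟩ := S.toHyp.swap.exists_primary hg'
  haveI := Fact.mk hp
  haveI := Fact.mk hq
  obtain ⟨y, hy, hym, hxy⟩ := S.exists_pair hp hx hxn hy₁ hy₁m
  have hP : Pair G n m p q x y := ⟨hp, hq, hx, hy, hxn, hym, hxy⟩
  by_cases hn : ∀ t : ℕ, t.Prime → t ∣ n → t = q
  · by_cases hm : ∀ s : ℕ, s.Prime → s ∣ m → s = p
    · exact OnePrime.false (G := G) (n := n) (m := m) (q := q) (r := p) ⟨S, hq, hp, hn, hm⟩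
    push Not at hm
    obtain ⟨s, hs, hsm, hsp⟩ := hm
    haveI := Fact.mk hs
    exact S.swap.false_of_one hn hsm hsp hx hxn
  push Not at hn
  obtain ⟨t, ht, htn, htq⟩ := hn
  haveI := Fact.mk ht
  by_cases hm : ∀ s : ℕ, s.Prime → s ∣ m → s = p
  · exact S.false_of_one hm htn htq hy hym
  push Not at hm
  obtain ⟨s, hs, hsm, hsp⟩ := hm
  haveI := Fact.mk hs
  by_cases hB : normalClosure ({y} : Set G) ≤ cent y
  · exact hP.false_of_comm S hB htn htq
  refine hP.swap.false_of_comm S.swap (hP.dichotomy S (fun h => hB fun b hb => ?_) hB) hsm hsp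
  exact mem_cent.2 (hP.comm_of_mem S h (subset_normalClosure rfl) hb)

/-- **Beltrán–Felipe.** -/
theorem Hyp.main (S : Hyp G n m) : Group.IsNilpotent G ∧ IsPrimePow n ∧ IsPrimePow m := by
  by_cases h : ∃ p x, Good (G := G) n m p x
  · obtain ⟨p, x, hg⟩ := h
    exact nilpotent_of_good hg S
  by_cases h' : ∃ q y, Good (G := G) m n q y
  · obtain ⟨q, y, hg⟩ := h'
    obtain ⟨h1, h2, h3⟩ := nilpotent_of_good hg S.swap
    exact ⟨h1, h3, h2⟩
  refine (AllBad.false (G := G) (n := n) (m := m) ⟨S, fun p x hp hx hxn => ?_,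
    fun q y hq hy hym => ?_⟩).elim
  · by_contra hd; exact h ⟨p, x, hp, hx, hxn, hd⟩
  · by_contra hd; exact h' ⟨q, y, hq, hy, hym, hd⟩

end Cfsg.Agent.ClassSize.FourSizes
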