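import Cfsg.Agent.Lib.ClassSize.FourSizes.Good

/-!
# No good elements

Every primary element of class size `n` has its prime in `m` and conversely.  Then each noncentral
element of `π(n)`-order commutes with noncentral elements of every prime in `m`; if moreover
`π(n)` has two primes, then `m` is not a prime power.
-/

set_option autoImplicit false
set_option linter.style.haveILetI false
set_option linter.unusedSectionVars false

namespace Cfsg.Agent.ClassSize.FourSizes

open Subgroup Cfsg.Agent.ClassSize.CoprimeTop Cfsg.Agent.ClassSize.TwoSteps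

variable {G : Type*} [Group G] [Finite G] {n m : ℕ}

/-- There is no good element. -/
structure AllBad (G : Type*) [Group G] (n m : ℕ) : Prop extends Hyp G n m where
  hN : ∀ (p : ℕ) (x : G), p.Prime → IsPEl p x → cl x = n → p ∣ m
  hM : ∀ (q : ℕ) (y : G), q.Prime → IsPEl q y → cl y = m → q ∣ n

theorem AllBad.swap (S : AllBad G n m) : AllBad G m n :=
  ⟨S.toHyp.swap, S.hM, S.hN⟩

/-- All primes dividing the order of `g` divide `n`. -/
def PiEl (n : ℕ) (g : G) : Prop := ∀ t : ℕ, t.Prime → t ∣ orderOf g → t ∣ n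

theorem piEl_of_isPEl {t : ℕ} (ht : t.Prime) (htn : t ∣ n) {g : G} (hg : IsPEl t g) :
    PiEl n g := fun s hs hd => by
  obtain ⟨b, hb⟩ := isPEl_orderOf ht hg
  rw [hb] at hd
  exact (Nat.prime_dvd_prime_iff_eq hs ht).1 (hs.dvd_of_dvd_pow hd) ▸ htn

theorem AllBad.m_dvd (S : AllBad G n m) {g : G} (hg : PiEl n g) (hgZ : g ∉ center G) :
    m ∣ cl g := by
  rcases S.noncentral hgZ with h | h | h
  · obtain ⟨p, hp, x, hx, hxp, hxn⟩ := S.exists_primary h
    have hxg : orderOf x ∣ orderOf g := by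
      obtain ⟨i, rfl⟩ := mem_zpowers_iff.1 hx
      exact orderOf_dvd_of_pow_eq_one (by
        rw [← zpow_natCast, ← zpow_mul, mul_comm, zpow_mul, zpow_natCast, pow_orderOf_eq_one,
          one_zpow])
    obtain ⟨b, hb⟩ := isPEl_orderOf hp hxp
    have hb0 : b ≠ 0 := fun h0 => by
      rw [h0, pow_zero, orderOf_eq_one_iff] at hb
      exact S.notMem_center_of (Or.inl hxn) (hb ▸ one_mem _)
    exact absurd (S.hN p x hp hxp hxn)
      (S.not_dvd_m hp (hg p hp ((hb ▸ dvd_pow_self p hb0).trans hxg)))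
  · rw [h]
  · rw [h]; exact dvd_mul_left m n

theorem AllBad.n_dvd (S : AllBad G n m) {g : G} (hg : PiEl m g) (hgZ : g ∉ center G) : n ∣ cl g :=
  S.swap.m_dvd hg hgZ

/-- `k_s`: the `s`-part of centralisers of noncentral `π(n)`-elements, `s ∣ m`. -/
theorem AllBad.pp_mul (S : AllBad G n m) {s : ℕ} [hs : Fact s.Prime] (hsm : s ∣ m) {g : G}
    (hg : m ∣ cl g) :
    pp s (cent g) * s ^ m.factorization s = s ^ (Nat.card G).factorization s := by
  refine pp_cent_mul ?_
  have hn0 : n ≠ 0 := by have := S.hn; omega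
  have hm0 : m ≠ 0 := by have := S.hm; omega
  rcases S.cases g with h | h | h | h
  · rw [h] at hg; exact absurd (Nat.dvd_one.1 hg) S.hm.ne'
  · rw [h] at hg; exact absurd (Nat.eq_one_of_dvd_coprimes S.hco hg dvd_rfl) S.hm.ne'
  · rw [h]
  · rw [h, factorization_mul_coprime hn0 hm0 fun hd => S.not_dvd_m hs.out hd hsm]

theorem AllBad.pp_eq (S : AllBad G n m) {s : ℕ} [hs : Fact s.Prime] (hsm : s ∣ m) {a b : G}
    (ha : m ∣ cl a) (hb : m ∣ cl b) : pp s (cent a) = pp s (cent b) :=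
  Nat.eq_of_mul_eq_mul_right (pow_pos hs.out.pos _) ((S.pp_mul hsm ha).trans (S.pp_mul hsm hb).symm)

theorem Hyp.exists_noncentral_prime (S : Hyp G n m) {t : ℕ} [ht : Fact t.Prime] (htn : t ∣ n) :
    ∃ u : G, IsPEl t u ∧ u ∉ center G := by
  by_contra! h
  obtain ⟨g, hg⟩ := S.ex_n
  obtain ⟨T⟩ := (inferInstance : Nonempty (Sylow t G))
  exact T.not_dvd_index ((hg ▸ htn : t ∣ cl g).trans (index_dvd_of_le fun a ha =>
    center_le_cent g (h a (isPEl_of_mem T.2 ha))))

theorem AllBad.exists_pp_lt (S : AllBad G n m) :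
    ∃ (s : ℕ) (_ : Fact s.Prime) (u : G), s ∣ m ∧ m ∣ cl u ∧ pp s (center G) < pp s (cent u) := by
  by_contra! hall
  obtain ⟨g, hg⟩ := S.ex_nm
  obtain ⟨g₁, hg₁⟩ := S.ex_n
  obtain ⟨p, hp, v, -, hvp, hv⟩ := S.exists_primary hg₁
  haveI : Fact p.Prime := ⟨hp⟩
  have hpm := S.hN p v hp hvp hv
  refine S.notMem_center_of (Or.inr (Or.inr hg)) ?_
  suffices hcard : Nat.card (cent g) ≤ Nat.card (center G) by
    exact (eq_of_le_of_card_ge (center_le_cent g) hcard).ge (self_mem_cent g)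
  refine le_of_eq (Nat.eq_of_factorization_eq Nat.card_pos.ne' Nat.card_pos.ne' fun t => ?_)
  by_cases ht : t.Prime
  swap
  · rw [Nat.factorization_eq_zero_of_not_prime _ ht, Nat.factorization_eq_zero_of_not_prime _ ht]
  haveI : Fact t.Prime := ⟨ht⟩
  refine Nat.pow_right_injective ht.two_le (show pp t (cent g) = pp t (center G) from
    le_antisymm ?_ (pp_mono (center_le_cent g)))
  by_cases htm : t ∣ m
  · exact hall t inferInstance g htm (hg ▸ dvd_mul_left m n)
  by_cases htn : t ∣ n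
  · rw [S.swap.pp_eq htn (a := g) (b := v) (hg ▸ dvd_mul_right n m) (hv.symm ▸ dvd_rfl)]
    by_contra hlt
    obtain ⟨u, hu, hut, huZ⟩ := exists_noncentral_of_pp (not_le.1 hlt)
    exact (not_lt.2 (hall p inferInstance u hpm (S.m_dvd (piEl_of_isPEl ht htn hut) huZ)))
      (pp_center_lt_of_mem (center_le_cent u) hvp (cent_comm.1 hu)
        (S.notMem_center_of (Or.inl hv)))
  · obtain ⟨W, hW, hWp, hWc⟩ := exists_pp_subgroup t (cent g)
    exact hWc ▸ card_le_pp (fun a ha => S.mem_center_of_prime ht htn htm (isPEl_of_mem hWp ha)) hWp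

/-- Every noncentral `π(m)`-element commutes with noncentral elements of each prime in `n`. -/
theorem AllBad.exists_commuting (S : AllBad G n m) {t : ℕ} [ht : Fact t.Prime] (htn : t ∣ n)
    {v : G} (hv : n ∣ cl v) : ∃ u ∈ cent v, IsPEl t u ∧ u ∉ center G := by
  obtain ⟨s, hs, u₀, hsm, hu₀, hlt⟩ := S.exists_pp_lt
  obtain ⟨u, hu, huZ⟩ := S.exists_noncentral_prime htn
  obtain ⟨w, hw, hws, hwZ⟩ := exists_noncentral_of_pp
    ((S.pp_eq hsm hu₀ (S.m_dvd (piEl_of_isPEl ht.out htn hu) huZ)) ▸ hlt)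
  refine exists_noncentral_of_pp ?_
  rw [S.swap.pp_eq htn hv (S.n_dvd (piEl_of_isPEl hs.out hsm hws) hwZ)]
  exact pp_center_lt_of_mem (center_le_cent w) hu (cent_comm.1 hw) huZ

theorem AllBad.cl_cases (S : AllBad G n m) {t : ℕ} (ht : t.Prime) (htn : t ∣ n) {u : G}
    (hu : IsPEl t u) (huZ : u ∉ center G) : cl u = m ∨ cl u = n * m := by
  rcases S.noncentral huZ with h | h | h
  · exact absurd (S.hN t u ht hu h) (S.not_dvd_m ht htn)
  · exact Or.inl h
  · exact Or.inr h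

theorem AllBad.coprime_pi (S : AllBad G n m) {a b : G} (ha : PiEl n a) (hb : PiEl m b) :
    (orderOf a).Coprime (orderOf b) :=
  Nat.coprime_of_dvd fun t ht hta htb => S.not_dvd_m ht (ha t ht hta) (hb t ht htb)

/-- Given a prime of an element of class size `m`, some such element commutes with `x`. -/
theorem AllBad.exists_pair (S : AllBad G n m) {p q : ℕ} (hp : p.Prime) [hq : Fact q.Prime]
    {x y : G} (hx : IsPEl p x) (hxn : cl x = n) (hy : IsPEl q y) (hym : cl y = m) :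
    ∃ y' : G, IsPEl q y' ∧ cl y' = m ∧ x * y' = y' * x := by
  have hqn := S.hM q y hq.out hy hym
  have hpm := S.hN p x hp hx hxn
  obtain ⟨u, hu, huq, huZ⟩ := S.exists_commuting (t := q) hqn (v := x) (hxn ▸ dvd_rfl)
  rcases S.cl_cases hq.out hqn huq huZ with h | h
  · exact ⟨u, huq, h, mem_cent.1 hu⟩
  have hle : cent u ≤ cent x := S.max_le h (mem_cent.1 hu).symm
    (coprime_primary hq.out hp (S.ne_of_dvd hq.out hqn hpm) huq hx)
  obtain ⟨Q, hQ⟩ := huq.isPGroup_zpowers.exists_le_sylow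
  obtain ⟨c, hcQ, hc⟩ := exists_conj_central hy (hym ▸ S.not_dvd_m hq.out hqn) Q
  exact ⟨_, isPEl_conj hy c, (cl_conj y c).trans hym,
    mem_cent.1 (hle (cent_comm.1 (hc (hQ (mem_zpowers u)))))⟩

/-- A subgroup covered by conjugates of `C(y)` centralises `y`. -/
theorem le_cent_of_cover {T : Subgroup G} {y : G}
    (h : ∀ v ∈ T, ∃ ρ ∈ T, v * (ρ * y * ρ⁻¹) = ρ * y * ρ⁻¹ * v) : T ≤ cent y := by
  have htop : (cent y).subgroupOf T = ⊤ := by
    refine OneSize.eq_top_of_forall_conj fun v => ?_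
    obtain ⟨ρ, hρ, e⟩ := h v v.2
    refine ⟨⟨ρ, hρ⟩, mem_subgroupOf.2 (mem_cent.2 ?_)⟩
    show y * (ρ⁻¹ * v * ρ) = ρ⁻¹ * v * ρ * y
    calc y * (ρ⁻¹ * v * ρ) = ρ⁻¹ * (ρ * y * ρ⁻¹ * v) * ρ := by group
      _ = ρ⁻¹ * (v * (ρ * y * ρ⁻¹)) * ρ := by rw [e]
      _ = ρ⁻¹ * v * ρ * y := by group
  exact subgroupOf_eq_top.1 htop

/-- If all primes of `m` equal `r`, then `G = R C(y)`. -/
theorem AllBad.conj_reduce (S : AllBad G n m) {r : ℕ} [hr : Fact r.Prime]
    (hone : ∀ s : ℕ, s.Prime → s ∣ m → s = r) (R : Sylow r G) {a : G} (ha : cl a = m) (c : G) :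
    ∃ ρ ∈ (R : Subgroup G), c * a * c⁻¹ = ρ * a * ρ⁻¹ := by
  have hm0 : m ≠ 0 := by have := S.hm; omega
  have hco : (R : Subgroup G).index.Coprime (cent a).index := by
    refine Nat.coprime_of_dvd fun s hs h1 h2 => ?_
    rw [show (cent a).index = m from ha] at h2
    rw [hone s hs h2] at h1
    exact R.not_dvd_index h1
  obtain ⟨ρ, hρ, f, hf, rfl⟩ := exists_mul_of_coprime hco c
  refine ⟨ρ, hρ, ?_⟩
  rw [show ρ * f * a * (ρ * f)⁻¹ = ρ * (f * a * f⁻¹) * ρ⁻¹ by group,
    show f * a * f⁻¹ = a by rw [← mem_cent.1 hf, mul_inv_cancel_right]]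

/-- If `π(n)` has two primes, `π(m)` has two primes. -/
theorem AllBad.false_of_one (S : AllBad G n m) {r : ℕ} [hr : Fact r.Prime]
    (hone : ∀ s : ℕ, s.Prime → s ∣ m → s = r) {q t : ℕ} [hq : Fact q.Prime] [ht : Fact t.Prime]
    (htn : t ∣ n) (htq : t ≠ q) {y : G} (hy : IsPEl q y) (hym : cl y = m) : False := by
  have hqn := S.hM q y hq.out hy hym
  have hqm := S.not_dvd_m hq.out hqn
  have htm := S.not_dvd_m ht.out htn
  have hrm : r ∣ m := by
    obtain ⟨s, hs, hsm⟩ := Nat.exists_prime_and_dvd S.hm.ne'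
    exact hone s hs hsm ▸ hsm
  obtain ⟨R⟩ := (inferInstance : Nonempty (Sylow r G))
  suffices hle : (R : Subgroup G) ≤ cent y by
    exact R.not_dvd_index ((hym ▸ hrm : r ∣ cl y).trans (index_dvd_of_le hle))
  refine le_cent_of_cover fun v hv => ?_
  by_cases hvZ : v ∈ center G
  · exact ⟨1, one_mem _, (mem_center_iff.1 hvZ _).symm⟩
  suffices h : ∃ c : G, v ∈ cent (c * y * c⁻¹) by
    obtain ⟨c, hc⟩ := h
    obtain ⟨ρ, hρ, e⟩ := S.conj_reduce hone R hym c
    exact ⟨ρ, hρ, by rw [← e]; exact (mem_cent.1 hc).symm⟩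
  obtain ⟨u, hu, hut, huZ⟩ := S.exists_commuting (t := t) htn
    (S.n_dvd (piEl_of_isPEl hr.out hrm (isPEl_of_mem R.2 hv)) hvZ)
  rcases S.cl_cases ht.out htn hut huZ with h | h
  · obtain ⟨Q, hQ⟩ := Transfer.exists_sylow_le_centralizer (p := q) u (by
      show ¬ q ∣ cl u; rw [h]; exact hqm)
    have hQu : (Q : Subgroup G) ≤ cent u := hQ
    obtain ⟨c, hcQ, hc⟩ := exists_conj_central hy (hym ▸ hqm) Q
    refine ⟨c, ?_⟩
    have hym' : cl (c * y * c⁻¹) = m := (cl_conj y c).trans hym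
    have hco := coprime_primary ht.out hq.out htq hut (isPEl_conj hy c)
    have hcomm := mem_cent.1 (hQu hcQ)
    have hinf := cent_mul_coprime hcomm hco
    have hd := cent_mul_dvd hcomm hco
    have hle : cl (u * (c * y * c⁻¹)) = m := by
      rcases S.cases (u * (c * y * c⁻¹)) with h1 | h1 | h1 | h1
      · rw [h1, h] at hd; exact absurd (Nat.dvd_one.1 hd.1) S.hm.ne'
      · rw [h1, h] at hd; exact absurd (Nat.eq_one_of_dvd_coprimes S.hco hd.1 dvd_rfl) S.hm.ne'
      · exact h1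
      · refine absurd ?_ Q.not_dvd_index
        refine ((dvd_mul_of_dvd_left hqn m).trans h1.symm.dvd).trans (index_dvd_of_le ?_)
        rw [hinf]; exact le_inf hQu hc
    have he : cent (u * (c * y * c⁻¹)) = cent u :=
      eq_of_le_of_cl (hinf ▸ inf_le_left) (by rw [hle, h])
    have hsub : cent u ≤ cent (c * y * c⁻¹) := by
      rw [← he, hinf]; exact inf_le_right
    exact hsub (cent_comm.1 hu)
  · obtain ⟨b, hb⟩ := isPEl_orderOf ht.out hut
    obtain ⟨c, hc⟩ := exists_conj_mem ht.out hb (H := cent y) (fun hd => htm (hym ▸ hd))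
    refine ⟨c, S.max_le h ?_ (coprime_primary ht.out hq.out htq hut (isPEl_conj hy c))
      (cent_comm.1 hu)⟩
    have h1 := commute_conj (c := c) (mem_cent.1 hc)
    rw [show c * (c⁻¹ * u * c) * c⁻¹ = u by group] at h1
    exact h1.symm

end Cfsg.Agent.ClassSize.FourSizes
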