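import Cfsg.Agent.Lib.ClassSize.TwoSteps.Tools
import Cfsg.Agent.Lib.ClassSize.OneSize

/-!
# Class sizes `{1, n, m, n * m}` with `(n, m) = 1`: basics

`pp s (cent g)` is the same for all noncentral `g` of a given kind; coprime commuting elements
`g`, `d` with `cl g = n * m` satisfy `cent g ≤ cent d`.
-/

set_option autoImplicit false
set_option linter.style.haveILetI false
set_option linter.unusedSectionVars false

namespace Cfsg.Agent.ClassSize.FourSizes

open Subgroup Cfsg.Agent.ClassSize.CoprimeTop Cfsg.Agent.ClassSize.TwoSteps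
open scoped Pointwise

variable {G : Type*} [Group G] [Finite G]

/-- Class sizes are exactly `1`, `n`, `m`, `n * m`. -/
structure Hyp (G : Type*) [Group G] (n m : ℕ) : Prop where
  hn : 1 < n
  hm : 1 < m
  hco : n.Coprime m
  cases : ∀ g : G, cl g = 1 ∨ cl g = n ∨ cl g = m ∨ cl g = n * m
  ex_n : ∃ g : G, cl g = n
  ex_m : ∃ g : G, cl g = m
  ex_nm : ∃ g : G, cl g = n * m

variable {n m : ℕ}

theorem Hyp.swap (S : Hyp G n m) : Hyp G m n where
  hn := S.hm
  hm := S.hn
  hco := S.hco.symm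
  cases g := by rcases S.cases g with h | h | h | h <;> rw [h] <;> simp [mul_comm]
  ex_n := S.ex_m
  ex_m := S.ex_n
  ex_nm := by rw [mul_comm]; exact S.ex_nm

theorem Hyp.not_dvd_m {p : ℕ} (S : Hyp G n m) (hp : p.Prime) (h : p ∣ n) : ¬ p ∣ m := fun h' =>
  hp.ne_one (Nat.eq_one_of_dvd_coprimes S.hco h h')

theorem Hyp.ne_of_dvd {p s : ℕ} (S : Hyp G n m) (hp : p.Prime) (h : p ∣ n) (hs : s ∣ m) : p ≠ s :=
  fun e => S.not_dvd_m hp h (e ▸ hs)

theorem Hyp.notMem_center_of (S : Hyp G n m) {g : G} (h : cl g = n ∨ cl g = m ∨ cl g = n * m) :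
    g ∉ center G := fun hg => by
  have h1 := cl_eq_one.2 hg
  have := S.hn
  have := S.hm
  have : 1 < n * m := one_lt_mul_of_lt_of_le S.hn S.hm.le
  omega

theorem Hyp.noncentral (S : Hyp G n m) {g : G} (hg : g ∉ center G) :
    cl g = n ∨ cl g = m ∨ cl g = n * m :=
  (S.cases g).resolve_left fun h => hg (cl_eq_one.1 h)

theorem Hyp.cl_eq_n (S : Hyp G n m) {g : G} (hg : g ∉ center G) (h : cl g ∣ n) : cl g = n := by
  rcases S.noncentral hg with h1 | h1 | h1
  · exact h1
  · rw [h1] at h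
    exact absurd (Nat.eq_one_of_dvd_coprimes S.hco h dvd_rfl) S.hm.ne'
  · rw [h1] at h
    exact absurd (Nat.eq_one_of_dvd_coprimes S.hco ((dvd_mul_left m n).trans h) dvd_rfl) S.hm.ne'

/-- A class size divisible by `n` and by `m` is `n * m`. -/
theorem Hyp.eq_nm (S : Hyp G n m) {g : G} (h1 : n ∣ cl g) (h2 : m ∣ cl g) : cl g = n * m := by
  have hd : n * m ∣ cl g := S.hco.mul_dvd_of_dvd_of_dvd h1 h2
  have hpos := cl_pos g
  have hle := Nat.le_of_dvd hpos hd
  have := S.hn
  have := S.hm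
  have : n < n * m := lt_mul_right (by omega) S.hm
  have : m < n * m := lt_mul_left (by omega) S.hn
  rcases S.cases g with h | h | h | h <;> omega

theorem Hyp.cl_le (S : Hyp G n m) (g : G) : cl g ≤ n * m := by
  have := S.hn
  have := S.hm
  have : n < n * m := lt_mul_right (by omega) S.hm
  have : m < n * m := lt_mul_left (by omega) S.hn
  rcases S.cases g with h | h | h | h <;> omega

/-- An element with the largest class size only commutes, at coprime order, with elements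
centralising its centraliser. -/
theorem Hyp.max_le (S : Hyp G n m) {g d : G} (hg : cl g = n * m) (hgd : g * d = d * g)
    (hco : (orderOf g).Coprime (orderOf d)) : cent g ≤ cent d := by
  have h1 := cent_mul_coprime hgd hco
  have h2 : cent (g * d) ≤ cent g := h1 ▸ inf_le_left
  rw [← eq_of_le_of_cl h2 (hg ▸ S.cl_le _), h1]
  exact inf_le_right

/-! ### Elements commuting at coprime order -/

theorem cent_mul_dvd {a b : G} (hab : a * b = b * a) (hco : (orderOf a).Coprime (orderOf b)) :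
    cl a ∣ cl (a * b) ∧ cl b ∣ cl (a * b) :=
  ⟨cl_dvd (cent_mul_coprime hab hco ▸ inf_le_left), cl_dvd (cent_mul_coprime hab hco ▸ inf_le_right)⟩

theorem coprime_primary {p q : ℕ} (hp : p.Prime) (hq : q.Prime) (hpq : p ≠ q) {a b : G}
    (ha : IsPEl p a) (hb : IsPEl q b) : (orderOf a).Coprime (orderOf b) :=
  IsPEl.coprime hp hq hpq ha hb

theorem isPEl_conj {p : ℕ} {g : G} (hg : IsPEl p g) (c : G) : IsPEl p (c * g * c⁻¹) := by
  obtain ⟨k, hk⟩ := hg
  exact ⟨k, by rw [conj_pow, hk, mul_one, mul_inv_cancel]⟩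

theorem isPEl_orderOf {p : ℕ} (hp : p.Prime) {g : G} (hg : IsPEl p g) :
    ∃ b, orderOf g = p ^ b := by
  obtain ⟨k, hk⟩ := hg.orderOf_dvd
  obtain ⟨b, -, hb⟩ := (Nat.dvd_prime_pow hp).1 hk
  exact ⟨b, hb⟩

theorem isPEl_mul {p : ℕ} {a b : G} (hab : a * b = b * a) (ha : IsPEl p a) (hb : IsPEl p b) :
    IsPEl p (a * b) := by
  obtain ⟨i, hi⟩ := ha
  obtain ⟨j, hj⟩ := hb
  refine ⟨i + j, ?_⟩
  rw [(show Commute a b from hab).mul_pow, pow_add, pow_mul a, hi, one_pow, one_mul, mul_comm,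
    pow_mul, hj, one_pow]

theorem isPEl_inv {p : ℕ} {a : G} (ha : IsPEl p a) : IsPEl p a⁻¹ :=
  ha.of_mem_zpowers (inv_mem (mem_zpowers a))

theorem commute_conj {a b c : G} (h : a * b = b * a) :
    c * a * c⁻¹ * (c * b * c⁻¹) = c * b * c⁻¹ * (c * a * c⁻¹) := by
  rw [show c * a * c⁻¹ * (c * b * c⁻¹) = c * (a * b) * c⁻¹ by group, h]
  group

/-- Coprime class sizes: one commuting pair of conjugates means all conjugates commute. -/
theorem commute_all {a b : G} (hco : (cl a).Coprime (cl b)) (h : a * b = b * a) (c d : G) :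
    c * a * c⁻¹ * (d * b * d⁻¹) = d * b * d⁻¹ * (c * a * c⁻¹) := by
  obtain ⟨e, he, f, hf, hef⟩ := exists_mul_of_coprime (A := cent a) (B := cent b) hco (c⁻¹ * d)
  have hd : d = c * (e * f) := by rw [← hef]; group
  have hb : d * b * d⁻¹ = (c * e) * b * (c * e)⁻¹ := by
    have h1 : f * b * f⁻¹ = b := by rw [← mem_cent.1 hf, mul_inv_cancel_right]
    rw [hd, show c * (e * f) * b * (c * (e * f))⁻¹ = c * e * (f * b * f⁻¹) * (c * e)⁻¹ by group, h1]
  have ha : c * a * c⁻¹ = (c * e) * a * (c * e)⁻¹ := by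
    rw [show (c * e) * a * (c * e)⁻¹ = c * (e * a * e⁻¹) * c⁻¹ by group,
      show e * a * e⁻¹ = a by rw [← mem_cent.1 he, mul_inv_cancel_right]]
  rw [ha, hb]
  exact commute_conj h

theorem commute_all_left {a b : G} (hco : (cl a).Coprime (cl b)) (h : a * b = b * a) (c : G) :
    c * a * c⁻¹ * b = b * (c * a * c⁻¹) := by
  simpa using commute_all hco h c 1

/-! ### `p`-parts -/

/-- A primary element lies in the centre of a Sylow subgroup if its class size is prime to `p`. -/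
theorem exists_sylow_central {p : ℕ} [hp : Fact p.Prime] {y : G} (hy : IsPEl p y)
    (h : ¬ p ∣ cl y) : ∃ Q : Sylow p G, y ∈ (Q : Subgroup G) ∧ (Q : Subgroup G) ≤ cent y := by
  obtain ⟨Q, hQ⟩ := Transfer.exists_sylow_le_centralizer (p := p) y h
  refine ⟨Q, ?_, hQ⟩
  have hn : zpowers y ≤ normalizer ((Q : Subgroup G) : Set G) := zpowers_le.2
    (centralizer_le_normalizer _ (mem_centralizer_iff.2 fun q hq =>
      (mem_cent.1 (hQ hq)).symm))
  have h1 : IsPGroup p ↥(zpowers y ⊔ (Q : Subgroup G)) :=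
    hy.isPGroup_zpowers.to_sup_of_normal_right' Q.2 hn
  exact (Q.3 h1 le_sup_right).le (mem_sup_left (mem_zpowers y))

/-- Some conjugate of a central element of a Sylow subgroup lies in, and centralises, any other. -/
theorem exists_conj_central {p : ℕ} [hp : Fact p.Prime] {y : G} (hy : IsPEl p y)
    (h : ¬ p ∣ cl y) (Q : Sylow p G) :
    ∃ c : G, c * y * c⁻¹ ∈ (Q : Subgroup G) ∧ (Q : Subgroup G) ≤ cent (c * y * c⁻¹) := by
  obtain ⟨Q₀, hy₀, hQ₀⟩ := exists_sylow_central hy h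
  obtain ⟨c, rfl⟩ := MulAction.exists_smul_eq G Q₀ Q
  refine ⟨c, ⟨y, hy₀, rfl⟩, ?_⟩
  rintro _ ⟨q, hq, rfl⟩
  exact cent_conj_mem.2 (by simpa [mul_assoc] using hQ₀ hq)

/-- `p`-elements are central when `p` divides no class size. -/
theorem mem_center_of_forall {p : ℕ} [hp : Fact p.Prime] (h : ∀ g : G, ¬ p ∣ cl g) {d : G}
    (hd : IsPEl p d) : d ∈ center G := by
  obtain ⟨Q, hQ⟩ := hd.isPGroup_zpowers.exists_le_sylow
  have htop : centralizer ((Q : Subgroup G) : Set G) = ⊤ := by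
    refine OneSize.eq_top_of_forall_conj fun g => ?_
    obtain ⟨R, hR⟩ := Transfer.exists_sylow_le_centralizer (p := p) g (h g)
    obtain ⟨c, rfl⟩ := MulAction.exists_smul_eq G Q R
    refine ⟨c, mem_centralizer_iff.2 fun q hq => ?_⟩
    have h1 : c * q * c⁻¹ ∈ cent g := hR ⟨q, hq, rfl⟩
    have h2 := mem_cent.1 h1
    calc q * (c⁻¹ * g * c) = c⁻¹ * (c * q * c⁻¹ * g) * c := by group
      _ = c⁻¹ * (g * (c * q * c⁻¹)) * c := by rw [h2]
      _ = c⁻¹ * g * c * q := by group
  exact (centralizer_eq_top_iff_subset.1 htop) (hQ (mem_zpowers d))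

theorem Hyp.mem_center_of_prime (S : Hyp G n m) {p : ℕ} (hp : p.Prime) (h1 : ¬ p ∣ n)
    (h2 : ¬ p ∣ m) {d : G} (hd : IsPEl p d) : d ∈ center G := by
  have := Fact.mk hp
  refine mem_center_of_forall (fun g hg => ?_) hd
  rcases S.cases g with h | h | h | h <;> rw [h] at hg
  · exact hp.not_dvd_one hg
  · exact h1 hg
  · exact h2 hg
  · exact (hp.dvd_mul.1 hg).elim h1 h2

theorem Hyp.prime_dvd (S : Hyp G n m) {p : ℕ} (hp : p.Prime) {d : G} (hd : IsPEl p d)
    (hdZ : d ∉ center G) : p ∣ n ∨ p ∣ m := by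
  by_contra h
  push Not at h
  exact hdZ (S.mem_center_of_prime hp h.1 h.2 hd)

/-- An element of class size `n` has a primary power of class size `n`. -/
theorem Hyp.exists_primary (S : Hyp G n m) {g : G} (hg : cl g = n) :
    ∃ p : ℕ, p.Prime ∧ ∃ x ∈ zpowers g, IsPEl p x ∧ cl x = n := by
  by_contra h
  push Not at h
  refine S.notMem_center_of (Or.inl hg) (mem_of_forall_primary fun q hq y hy hyq => ?_)
  by_contra hyZ
  exact h q hq y hy hyq (S.cl_eq_n hyZ (hg ▸ cl_dvd (cent_le_of_mem_zpowers hy)))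

theorem pp_cent_mul {p : ℕ} [Fact p.Prime] {g : G} {e : ℕ}
    (h : (cl g).factorization p = e) :
    pp p (cent g) * p ^ e = p ^ (Nat.card G).factorization p := h ▸ pp_mul_cl g

theorem factorization_mul_coprime {a b p : ℕ} (ha : a ≠ 0) (hb : b ≠ 0) (hp : ¬ p ∣ a) :
    (a * b).factorization p = b.factorization p := by
  rw [Nat.factorization_mul ha hb, Finsupp.add_apply, Nat.factorization_eq_zero_of_not_dvd hp,
    zero_add]

/-- A `p`-element outside the centre in a subgroup containing the centre. -/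
theorem exists_noncentral_of_pp {p : ℕ} [Fact p.Prime] {H : Subgroup G}
    (h : pp p (center G) < pp p H) : ∃ v ∈ H, IsPEl p v ∧ v ∉ center G := by
  obtain ⟨W, hW, hWp, hWc⟩ := exists_pp_subgroup p H
  obtain ⟨v, hv, hv'⟩ := exists_notMem_center hWp (hWc ▸ h)
  exact ⟨v, hW hv, isPEl_of_mem hWp hv, hv'⟩

end Cfsg.Agent.ClassSize.FourSizes
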