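import Cfsg.Agent.Lib.ClassSize.FourSizes.Basic
import Cfsg.Agent.Lib.Coprime.Commutator
import Cfsg.Agent.S4035

/-!
# The case of a `p`-element of class size `n` with `p ∤ m`

Its centraliser is nilpotent and `m` is a power of one prime; the group is then nilpotent.
-/

set_option autoImplicit false
set_option linter.style.haveILetI false
set_option linter.unusedSectionVars false

namespace Cfsg.Agent.ClassSize.FourSizes

open Subgroup Cfsg.Agent.ClassSize.CoprimeTop Cfsg.Agent.ClassSize.TwoSteps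

variable {G : Type*} [Group G] [Finite G] {n m : ℕ}

/-- A `p`-element of class size `n` with `p` not dividing `m`. -/
structure Good (n m p : ℕ) (x : G) : Prop where
  hp : p.Prime
  hx : IsPEl p x
  hcl : cl x = n
  hpm : ¬ p ∣ m

theorem Good.conj {p : ℕ} {x : G} (h : Good n m p x) (c : G) : Good n m p (c * x * c⁻¹) :=
  ⟨h.hp, isPEl_conj h.hx c, (cl_conj x c).trans h.hcl, h.hpm⟩

theorem Good.comm {p : ℕ} {x y : G} (h : Good n m p x) (S : Hyp G n m) (hy : cl y = m) :
    x * y = y * x := by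
  obtain ⟨b, hb⟩ := isPEl_orderOf h.hp h.hx
  obtain ⟨c, hc⟩ := exists_conj_mem h.hp hb (H := cent y) (fun hd => h.hpm (hy ▸ hd))
  have h1 : c⁻¹ * x * c * y = y * (c⁻¹ * x * c) := (mem_cent.1 hc).symm
  have h2 := commute_all_left (a := c⁻¹ * x * c) (b := y)
    (by rw [show c⁻¹ * x * c = c⁻¹ * x * c⁻¹⁻¹ by group, cl_conj, h.hcl, hy]; exact S.hco) h1 c
  rwa [show c * (c⁻¹ * x * c) * c⁻¹ = x by group] at h2

theorem cl_subtype (H : Subgroup G) (u : H) : cl u = (cent (u : G)).relIndex H := by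
  show (cent u).index = ((cent (u : G)).subgroupOf H).index
  congr 1
  ext v
  rw [mem_cent, mem_subgroupOf, mem_cent]
  exact Subtype.ext_iff

theorem relIndex_eq_index {K H : Subgroup G} [H.Normal] (h : H ⊔ K = ⊤) :
    K.relIndex H = K.index := by
  have h1 : H.relIndex K = H.index := by
    rw [← relIndex_sup_left (K := H) (H := K), h, relIndex_top_right]
  have h2 := relIndex_mul_index (inf_le_left : H ⊓ K ≤ H)
  have h3 := relIndex_mul_index (inf_le_right : H ⊓ K ≤ K)
  rw [inf_relIndex_left] at h2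
  rw [inf_relIndex_right, h1] at h3
  rw [← h3, mul_comm H.index] at h2
  exact Nat.eq_of_mul_eq_mul_right (Nat.pos_of_ne_zero index_ne_zero_of_finite) h2

theorem commute_of_nilpotent {H : Type*} [Group H] [Finite H] (hH : Group.IsNilpotent H) {p q : ℕ}
    [hp : Fact p.Prime] [hq : Fact q.Prime] (hpq : p ≠ q) {a b : H} (ha : IsPEl p a)
    (hb : IsPEl q b) : a * b = b * a := by
  obtain ⟨P, hP⟩ := ha.isPGroup_zpowers.exists_le_sylow
  obtain ⟨Q, hQ⟩ := hb.isPGroup_zpowers.exists_le_sylow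
  have hPn : (P : Subgroup H).Normal :=
    Sylow.normal_of_normalizerCondition Group.normalizerCondition_of_isNilpotent P
  have hQn : (Q : Subgroup H).Normal :=
    Sylow.normal_of_normalizerCondition Group.normalizerCondition_of_isNilpotent Q
  exact Subgroup.commute_of_normal_of_disjoint _ _ hPn hQn
    (IsPGroup.disjoint_of_ne p q hpq _ _ P.2 Q.2) a b (hP (mem_zpowers a)) (hQ (mem_zpowers b))

theorem mem_of_normal_sylow {p : ℕ} [Fact p.Prime] (P : Sylow p G)
    (hP : (P : Subgroup G).Normal) {a : G} (ha : IsPEl p a) : a ∈ (P : Subgroup G) :=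
  (P.3 (IsPGroup.to_sup_of_normal_left P.2 ha.isPGroup_zpowers) le_sup_left).le
    (mem_sup_right (mem_zpowers a))

theorem isPEl_subtype {H : Subgroup G} {p : ℕ} {a : H} : IsPEl p a ↔ IsPEl p (a : G) := by
  constructor <;> rintro ⟨k, hk⟩ <;> refine ⟨k, ?_⟩
  · simpa using congrArg (Subtype.val) hk
  · exact Subtype.ext (by simpa using hk)

/-- The centraliser of a good element is nilpotent, and `m` is a prime power. -/
theorem Good.structure {p : ℕ} {x : G} (h : Good n m p x) (S : Hyp G n m) :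
    Group.IsNilpotent (cent x) ∧ ∃ s b : ℕ, s.Prime ∧ s ∣ m ∧ m = s ^ b := by
  haveI : Fact p.Prime := ⟨h.hp⟩
  obtain ⟨e, he⟩ := isPEl_orderOf h.hp h.hx
  have hrel : ∀ u : cent x, (orderOf u).Coprime p → cl u = 1 ∨ cl u = m := by
    intro u hu
    rw [← orderOf_coe] at hu
    have hco : (orderOf x).Coprime (orderOf (u : G)) := he ▸ (hu.symm.pow_left e)
    have hc : cent (x * u) = cent x ⊓ cent (u : G) := cent_mul_coprime (mem_cent.1 u.2) hco
    have h2 := relIndex_mul_index (inf_le_left : cent x ⊓ cent (u : G) ≤ cent x)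
    rw [inf_relIndex_left, ← hc] at h2
    have h3 : cl u * n = cl (x * u) := by rw [cl_subtype, ← h.hcl]; exact h2
    have hn0 : 0 < n := by have := S.hn; omega
    rcases S.cases (x * u) with h4 | h4 | h4 | h4 <;> rw [h4] at h3
    · exact absurd (Nat.eq_one_of_mul_eq_one_left h3) S.hn.ne'
    · exact Or.inl (Nat.eq_of_mul_eq_mul_right hn0 (h3.trans (one_mul n).symm))
    · exact absurd (Nat.eq_one_of_dvd_coprimes S.hco dvd_rfl (h3 ▸ dvd_mul_left n _)) S.hn.ne'
    · exact Or.inr (Nat.eq_of_mul_eq_mul_right hn0 (h3.trans (mul_comm n m)))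
  obtain ⟨P⟩ := (inferInstance : Nonempty (Sylow p (cent x)))
  obtain ⟨hPn, H, hHn, hHp, hdis, hsup⟩ := S4035.result (fun u hu => by
    rw [PrimeParts.ncard_carrier]
    show ¬ p ∣ cl u
    rcases hrel u hu with h1 | h1 <;> rw [h1]
    · exact h.hp.not_dvd_one
    · exact h.hpm) P
  have hcomm : ∀ a ∈ (P : Subgroup (cent x)), ∀ b ∈ H, a * b = b * a := fun a ha b hb =>
    Subgroup.commute_of_normal_of_disjoint _ _ hPn hHn (disjoint_iff.2 hdis) a b ha hb
  have hHcl : ∀ v : H, cl v = cl (v : cent x) := by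
    intro v
    rw [cl_subtype]
    refine relIndex_eq_index (eq_top_iff.2 ?_)
    rw [← hsup]
    exact sup_le (le_trans (fun a ha => mem_cent.2 (hcomm a ha v v.2).symm) le_sup_right) le_sup_left
  have hcases : ∀ v : H, cl v = 1 ∨ cl v = m := fun v => by
    rw [hHcl]
    exact hrel v ((h.hp.coprime_iff_not_dvd.2 fun hd => hHp (hd.trans
      (Subgroup.orderOf_dvd_natCard H v.2))).symm)
  obtain ⟨y, hy⟩ := S.ex_m
  have hyx : y ∈ cent x := mem_cent.2 (h.comm S hy)
  have hyrel : cl (⟨y, hyx⟩ : cent x) = m := by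
    have hco : (cent x).index.Coprime (cent y).index := by
      show (cl x).Coprime (cl y); rw [h.hcl, hy]; exact S.hco
    have h2 := relIndex_mul_index (inf_le_left : cent x ⊓ cent y ≤ cent x)
    rw [inf_relIndex_left, index_inf_of_coprime hco, show (cent x).index = n from h.hcl,
      show (cent y).index = m from hy, mul_comm n m] at h2
    rw [cl_subtype]
    exact Nat.eq_of_mul_eq_mul_right (show 0 < n by have := S.hn; omega) h2
  have hex : ∃ v : H, v ∉ center H := by
    by_contra! hall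
    have hle : H ≤ center (cent x) := fun v hv => cl_eq_one.1 (by
      rw [← hHcl ⟨v, hv⟩]; exact cl_eq_one.2 (hall ⟨v, hv⟩))
    obtain ⟨k, hk⟩ := IsPGroup.iff_card.1 P.2
    have h1 : cl (⟨y, hyx⟩ : cent x) ∣ H.index :=
      index_dvd_of_le (hle.trans (center_le_cent _))
    have h2 : H.index ∣ p ^ k := by
      rw [← hk, ← relIndex_top_right, ← hsup, relIndex_sup_right]
      exact relIndex_dvd_card H _
    rw [hyrel] at h1
    obtain ⟨j, -, hj⟩ := (Nat.dvd_prime_pow h.hp).1 (h1.trans h2)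
    have hj0 : j ≠ 0 := fun h0 => by rw [h0, pow_zero] at hj; exact S.hm.ne' hj
    exact h.hpm (hj ▸ dvd_pow_self p hj0)
  obtain ⟨v₀, hv₀⟩ := hex
  have hs : m.minFac.Prime := Nat.minFac_prime S.hm.ne'
  haveI : Fact m.minFac.Prime := ⟨hs⟩
  have huniq : ∀ {t : ℕ}, t.Prime → t ∣ m → t = m.minFac := fun {t} ht htm => by
    by_contra hne
    haveI : Fact t.Prime := ⟨ht⟩
    exact OneSize.not_two_primes hcases S.hm htm m.minFac_dvd hne hv₀
  refine ⟨?_, m.minFac, _, hs, m.minFac_dvd, Nat.eq_prime_pow_of_unique_prime_dvd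
    (by have := S.hm; omega) huniq⟩
  haveI hHnil : Group.IsNilpotent H := by
    refine Group.of_quotient_center_nilpotent (IsPGroup.isNilpotent (p := m.minFac) ?_)
    refine IsPGroup.of_card (n := (center H).index.primeFactorsList.length) ?_
    rw [← index_eq_card]
    refine Nat.eq_prime_pow_of_unique_prime_dvd index_ne_zero_of_finite fun {t} ht htd => ?_
    by_contra hne
    haveI : Fact t.Prime := ⟨ht⟩
    obtain ⟨T⟩ := (inferInstance : Nonempty (Sylow t H))
    refine T.not_dvd_index (htd.trans (index_dvd_of_le fun a ha => ?_))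
    obtain ⟨k, hk⟩ := IsPGroup.iff_orderOf.1 T.2 ⟨a, ha⟩
    rw [orderOf_mk] at hk
    exact OneSize.mem_center_of_not_dvd hcases (fun htm => hne (huniq ht htm)) hk
  haveI : Group.IsNilpotent (P : Subgroup (cent x)) := P.2.isNilpotent
  refine Group.nilpotent_of_surjective (MonoidHom.noncommCoprod (P : Subgroup (cent x)).subtype
    H.subtype fun a b => hcomm a a.2 b b.2) (MonoidHom.range_eq_top.1 ?_)
  exact (MonoidHom.noncommCoprod_range _ _ _).trans (by rw [range_subtype, range_subtype, hsup])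

/-- Elements of class size `m` have the prime of `m`. -/
theorem Good.prime_of_m {p q : ℕ} {x y : G} (h : Good n m p x) (S : Hyp G n m) (hq : q.Prime)
    (hy : IsPEl q y) (hym : cl y = m) : ∃ b : ℕ, m = q ^ b := by
  obtain ⟨hnil, s, b, hs, hsm, hb⟩ := h.structure S
  refine ⟨b, ?_⟩
  by_cases hqs : q = s
  · rw [hqs, hb]
  exfalso
  haveI : Fact s.Prime := ⟨hs⟩
  haveI : Fact q.Prime := ⟨hq⟩
  have hyx : y ∈ cent x := mem_cent.2 (h.comm S hym)
  have hco : (cent x).index.Coprime (cent y).index := by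
    show (cl x).Coprime (cl y); rw [h.hcl, hym]; exact S.hco
  have h2 := relIndex_mul_index (inf_le_left : cent x ⊓ cent y ≤ cent x)
  rw [inf_relIndex_left, index_inf_of_coprime hco, show (cent x).index = n from h.hcl,
    show (cent y).index = m from hym, mul_comm n m] at h2
  have hyrel : cl (⟨y, hyx⟩ : cent x) = m := by
    rw [cl_subtype]
    exact Nat.eq_of_mul_eq_mul_right (show 0 < n by have := S.hn; omega) h2
  obtain ⟨T⟩ := (inferInstance : Nonempty (Sylow s (cent x)))
  refine T.not_dvd_index ((show s ∣ cl (⟨y, hyx⟩ : cent x) by rw [hyrel]; exact hsm).trans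
    (index_dvd_of_le fun a ha => mem_cent.2 ?_))
  exact commute_of_nilpotent hnil hqs (isPEl_subtype.2 hy) (isPEl_of_mem T.2 ha)

/-- With good elements of both kinds the Sylow `p`-subgroups are normal. -/
theorem Good.normal_sylow {p q : ℕ} [hp : Fact p.Prime] {x y : G} (h : Good n m p x)
    (h' : Good m n q y) (S : Hyp G n m) (hpn : p ∣ n) (hqm : q ∣ m) (P : Sylow p G) :
    (P : Subgroup G).Normal := by
  haveI : Fact q.Prime := ⟨h'.hp⟩
  have hpq : p ≠ q := S.ne_of_dvd h.hp hpn hqm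
  -- `y` lies in `O_q(G)`
  have hU : ∀ Q : Sylow q G, normalClosure ({y} : Set G) ≤ (Q : Subgroup G) := by
    intro Q
    obtain ⟨Q₀, hQ₀⟩ := Transfer.exists_sylow_le_centralizer (p := q) x (by
      show ¬ q ∣ cl x; rw [h.hcl]; exact h'.hpm)
    obtain ⟨c, rfl⟩ := MulAction.exists_smul_eq G Q₀ Q
    have hle : ((c • Q₀ : Sylow q G) : Subgroup G) ≤ cent (c * x * c⁻¹) := by
      rintro _ ⟨a, ha, rfl⟩
      have h2 : a ∈ cent x := hQ₀ ha
      exact cent_conj_mem.2 (by simpa [mul_assoc] using h2)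
    refine (closure_le _).2 ?_
    intro z hz
    obtain ⟨w, rfl, hw⟩ := Group.mem_conjugatesOfSet_iff.1 hz
    obtain ⟨d, rfl⟩ := isConj_iff.1 hw
    have hzc : d * w * d⁻¹ ∈ cent (c * x * c⁻¹) :=
      mem_cent.2 ((h.conj c).comm S ((cl_conj w d).trans h'.hcl))
    have hnil := ((h.conj c).structure S).1
    have := mem_of_normal_sylow ((c • Q₀ : Sylow q G).subtype hle)
      (Sylow.normal_of_normalizerCondition Group.normalizerCondition_of_isNilpotent _)
      (a := ⟨_, hzc⟩) (isPEl_subtype.2 (isPEl_conj h'.hx d))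
    rw [Sylow.coe_subtype, mem_subgroupOf] at this
    exact this
  obtain ⟨Q⟩ := (inferInstance : Nonempty (Sylow q G))
  set U := normalClosure ({y} : Set G)
  have hUq : IsPGroup q U := Q.2.to_le (hU Q)
  obtain ⟨P₀, hP₀⟩ := Transfer.exists_sylow_le_centralizer (p := p) y (by
    show ¬ p ∣ cl y; rw [h'.hcl]; exact h.hpm)
  have hnil : Group.IsNilpotent (cent y) := (h'.structure S.swap).1
  obtain ⟨k, hk⟩ := IsPGroup.iff_card.1 P₀.2
  have hyU : y ∈ U := subset_normalClosure rfl
  have hN : ∀ K : Subgroup G, K ≤ normalizer (U : Set G) := fun K => by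
    rw [normalizer_eq_top]; exact le_top
  have hPU : (P₀ : Subgroup G) ≤ centralizer (U : Set G) := by
    refine Coprime.le_centralizer_of_pq h'.hx.isPGroup_zpowers ?_ hUq ?_ (hN _) (hN _) ?_
    · rw [hk]; exact ((Nat.coprime_primes h.hp h'.hp).2 hpq).pow_left k
    · refine zpowers_le.2 (mem_centralizer_iff.2 fun a ha => ?_)
      exact (mem_cent.1 (hP₀ ha)).symm
    · rintro u ⟨hu, huc⟩
      have huy : u ∈ cent y :=
        mem_cent.2 (mem_centralizer_iff.1 huc y (mem_zpowers y))
      refine mem_centralizer_iff.2 fun a ha => ?_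
      have := commute_of_nilpotent hnil hpq (a := ⟨a, hP₀ ha⟩) (b := ⟨u, huy⟩)
        (isPEl_subtype.2 (isPEl_of_mem P₀.2 ha)) (isPEl_subtype.2 (isPEl_of_mem hUq hu))
      exact congrArg Subtype.val this
  have hfix : ∀ c : G, c • P₀ = P₀ := by
    intro c
    set y' := c * y * c⁻¹
    have hy' : y' ∈ U := normalClosure_normal.conj_mem y hyU c
    have h1 : (P₀ : Subgroup G) ≤ cent y' := fun a ha =>
      mem_cent.2 (mem_centralizer_iff.1 (hPU ha) y' hy')
    have h2 : ((c • P₀ : Sylow p G) : Subgroup G) ≤ cent y' := by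
      rintro _ ⟨a, ha, rfl⟩
      have h2 : a ∈ cent y := hP₀ ha
      exact cent_conj_mem.2 (by simpa [mul_assoc] using h2)
    have hnil' : Group.IsNilpotent (cent y') := ((h'.conj c).structure S.swap).1
    have hn' := Sylow.normal_of_normalizerCondition
      (Group.normalizerCondition_of_isNilpotent (G := cent y')) ((c • P₀ : Sylow p G).subtype h2)
    refine Sylow.ext ((P₀.3 (c • P₀ : Sylow p G).2 fun a ha => ?_))
    have := mem_of_normal_sylow _ hn' (a := ⟨a, h1 ha⟩) (isPEl_subtype.2 (isPEl_of_mem P₀.2 ha))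
    rwa [Sylow.coe_subtype, mem_subgroupOf] at this
  have hn₀ : (P₀ : Subgroup G).Normal := by
    refine Subgroup.normalizer_eq_top_iff.1 (eq_top_iff.2 fun g _ => ?_)
    exact Sylow.smul_eq_iff_mem_normalizer.1 (hfix g)
  obtain ⟨c, rfl⟩ := MulAction.exists_smul_eq G P₀ P
  rw [hfix c]
  exact hn₀

/-- A good element forces nilpotency and prime powers. -/
theorem nilpotent_of_good {p : ℕ} {x : G} (h : Good n m p x) (S : Hyp G n m) :
    Group.IsNilpotent G ∧ IsPrimePow n ∧ IsPrimePow m := by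
  obtain ⟨g, hg⟩ := S.swap.ex_n
  obtain ⟨q, hq, y, -, hy, hym⟩ := S.swap.exists_primary hg
  obtain ⟨b, hb⟩ := h.prime_of_m S hq hy hym
  have hb0 : b ≠ 0 := fun h0 => by rw [h0, pow_zero] at hb; exact S.hm.ne' hb
  have hqm : q ∣ m := hb ▸ dvd_pow_self q hb0
  have h' : Good m n q y := ⟨hq, hy, hym, fun hd => S.swap.not_dvd_m hq hqm hd⟩
  obtain ⟨a, ha⟩ := h'.prime_of_m S.swap h.hp h.hx h.hcl
  have ha0 : a ≠ 0 := fun h0 => by rw [h0, pow_zero] at ha; exact S.hn.ne' ha
  have hpn : p ∣ n := ha ▸ dvd_pow_self p ha0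
  refine ⟨((Group.isNilpotent_of_finite_tfae (G := G)).out 0 3).2 fun t ht T => ?_,
    (isPrimePow_nat_iff n).2 ⟨p, a, h.hp, Nat.pos_of_ne_zero ha0, ha.symm⟩,
    (isPrimePow_nat_iff m).2 ⟨q, b, hq, Nat.pos_of_ne_zero hb0, hb.symm⟩⟩
  by_cases htn : t ∣ n
  · have : t = p := (Nat.prime_dvd_prime_iff_eq ht.out h.hp).1 (ht.out.dvd_of_dvd_pow (ha ▸ htn))
    subst this
    haveI := ht
    exact h.normal_sylow h' S hpn hqm T
  by_cases htm : t ∣ m
  · have : t = q := (Nat.prime_dvd_prime_iff_eq ht.out hq).1 (ht.out.dvd_of_dvd_pow (hb ▸ htm))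
    subst this
    haveI := ht
    exact h'.normal_sylow h S.swap hqm hpn T
  have hle : (T : Subgroup G) ≤ center G := fun a ha => S.mem_center_of_prime ht.out htn htm
    (isPEl_of_mem T.2 ha)
  exact ⟨fun a ha g => by
    rwa [mem_center_iff.1 (hle ha) g, mul_inv_cancel_right]⟩

end Cfsg.Agent.ClassSize.FourSizes
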