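import Cfsg.Agent.Lib.ClassSize.FourSizes.Pair

/-!
# Two primes in `n` and a commutative closure

If `B` is commutative and `t ∣ n` is a prime different from `q`, then `C(B)` contains all
`t`-elements of `G` and all `π(m)`-elements of `C(y)`, which is impossible.
-/

set_option autoImplicit false
set_option linter.style.haveILetI false
set_option linter.unusedSectionVars false

namespace Cfsg.Agent.ClassSize.FourSizes

open Subgroup Cfsg.Agent.ClassSize.CoprimeTop Cfsg.Agent.ClassSize.TwoSteps

variable {G : Type*} [Group G] [Finite G] {n m p q : ℕ} {x y : G}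

theorem conj_eq_of_mem {l a : G} (h : l ∈ cent a) : l * a * l⁻¹ = a := by
  rw [← mem_cent.1 h, mul_inv_cancel_right]

theorem AllBad.m_or_nm (S : AllBad G n m) {g : G} (h : m ∣ cl g) : cl g = m ∨ cl g = n * m := by
  rcases S.cases g with h1 | h1 | h1 | h1 <;> rw [h1] at h
  · exact absurd (Nat.dvd_one.1 h) S.hm.ne'
  · exact absurd (Nat.eq_one_of_dvd_coprimes S.hco h dvd_rfl) S.hm.ne'
  · exact Or.inl h1
  · exact Or.inr h1

/-- A maximal centraliser contained in `C(x') ∩ C(y)` equals it. -/
theorem AllBad.cent_eq_pair (S : AllBad G n m) (hy : IsPEl q y) (hym : cl y = m) (hq : q.Prime)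
    {p' : ℕ} {x' : G} (hp : p'.Prime) (hx' : IsPEl p' x') (hxn : cl x' = n)
    (hxy : x' * y = y * x') {g : G} (hg : cl g = n * m) (hgx : cent g ≤ cent x')
    (hgy : cent g ≤ cent y) : cent g = cent (x' * y) := by
  have hqn := S.hM q y hq hy hym
  have hpm := S.hN p' x' hp hx' hxn
  have hco := coprime_primary hp hq (S.ne_of_dvd hq hqn hpm).symm hx' hy
  have hd := cent_mul_dvd hxy hco
  have hnm : cl (x' * y) = n * m := S.eq_nm (hxn ▸ hd.1) (hym ▸ hd.2)
  exact eq_of_le_of_cl (by rw [cent_mul_coprime hxy hco]; exact le_inf hgx hgy) (by rw [hnm, hg])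

theorem Pair.false_of_comm (P : Pair G n m p q x y) (S : AllBad G n m)
    (hB : normalClosure ({y} : Set G) ≤ cent y) {t : ℕ} [ht : Fact t.Prime] (htn : t ∣ n)
    (htq : t ≠ q) : False := by
  set B := normalClosure ({y} : Set G) with hBdef
  set M := centralizer (B : Set G)
  haveI : Fact p.Prime := ⟨P.hp⟩
  have hqn := S.hM q y P.hq P.hy P.hym
  have hpm := S.hN p x P.hp P.hx P.hxn
  have htm := S.not_dvd_m ht.out htn
  have hyB : y ∈ B := subset_normalClosure rfl
  have hML : M ≤ cent y := fun g hg => mem_cent.2 (mem_centralizer_iff.1 hg y hyB)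
  have hMn : M.Normal := inferInstance
  have mem_M : ∀ {a : G}, B ≤ cent a → a ∈ M := fun {a} ha =>
    mem_centralizer_iff.2 fun b hb => (mem_cent.1 (ha hb)).symm
  have hpair : ∀ {x' : G}, IsPEl p x' → cl x' = n →
      (∀ b ∈ B, x' * b = b * x') → B ≤ cent (x' * y) := fun {x'} hx' hxn hb b hbB =>
    mem_cent.2 ((show Commute x' b from hb b hbB).mul_left (mem_cent.1 (hB hbB))).eq
  -- for a `t`-element `u` of `C(y)` with `cl (u y) = n m`, `C(u y)` is some `C(x' y)`
  have hu : ∀ u ∈ cent y, IsPEl t u → cl (u * y) = n * m → ∃ l ∈ cent y,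
      cent (u * y) = cent (l * x * l⁻¹ * y) := by
    intro u hu hut hnm
    have huy : u * y = y * u := (mem_cent.1 hu).symm
    have hco := coprime_primary ht.out P.hq htq hut P.hy
    have hinf := cent_mul_coprime huy hco
    have hle : cent (u * y) ≤ cent y := hinf ▸ inf_le_right
    obtain ⟨b, hb⟩ := isPEl_orderOf P.hp P.hx
    have hxL : x ∈ cent y := mem_cent.2 P.comm.symm
    have hidx : ((cent (u * y)).subgroupOf (cent y)).index = n := by
      have := relIndex_mul_index hle
      rw [show (cent (u * y)).index = n * m from hnm, show (cent y).index = m from P.hym] at this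
      exact Nat.eq_of_mul_eq_mul_right (show 0 < m by have := S.hm; omega) this
    obtain ⟨l, hl⟩ := exists_conj_mem P.hp (d := (⟨x, hxL⟩ : cent y))
      (by rw [orderOf_mk]; exact hb) (H := (cent (u * y)).subgroupOf (cent y))
      (by rw [hidx]; exact fun h => S.not_dvd_m P.hp h hpm)
    refine ⟨(l : G)⁻¹, inv_mem l.2, ?_⟩
    rw [inv_inv]
    have hl' : (l : G)⁻¹ * x * l ∈ cent (u * y) := mem_subgroupOf.1 hl
    have hxp : IsPEl p ((l : G)⁻¹ * x * l) := by simpa using isPEl_conj P.hx (l : G)⁻¹
    have hxc : cl ((l : G)⁻¹ * x * l) = n := by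
      rw [show (l : G)⁻¹ * x * l = (l : G)⁻¹ * x * (l : G)⁻¹⁻¹ by group, cl_conj, P.hxn]
    refine S.cent_eq_pair P.hy P.hym P.hq P.hp hxp hxc ?_ hnm ?_ hle
    · exact (mem_cent.1 (hle hl')).symm
    · refine S.max_le hnm (mem_cent.1 hl') (Nat.coprime_of_dvd fun r hr h1 h2 => ?_)
      refine S.not_dvd_m hr (piEl_mul ht.out htn P.hq hqn huy hut P.hy r hr h1) ?_
      exact piEl_of_isPEl P.hp hpm hxp r hr h2
  have hconjB : ∀ l : G, ∀ b ∈ B, l * x * l⁻¹ * b = b * (l * x * l⁻¹) := fun l b hb =>
    P.closure_comm S (normalClosure_normal.conj_mem x (subset_normalClosure (Set.mem_singleton x)) l) hb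
  -- all `t`-elements are in `M`
  have htM : ∀ u : G, IsPEl t u → u ∈ M := by
    intro u hut
    obtain ⟨b, hb⟩ := isPEl_orderOf ht.out hut
    obtain ⟨c, hc⟩ := exists_conj_mem ht.out hb (H := cent y) (fun h => htm (P.hym ▸ h))
    suffices h : c⁻¹ * u * c ∈ M by
      have := hMn.conj_mem _ h c
      rwa [show c * (c⁻¹ * u * c) * c⁻¹ = u by group] at this
    have hut' : IsPEl t (c⁻¹ * u * c) := by simpa using isPEl_conj hut c⁻¹
    have huy : c⁻¹ * u * c * y = y * (c⁻¹ * u * c) := (mem_cent.1 hc).symm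
    have hco := coprime_primary ht.out P.hq htq hut' P.hy
    have hinf := cent_mul_coprime huy hco
    refine mem_M ?_
    have hd := cent_mul_dvd huy hco
    rcases S.m_or_nm (P.hym ▸ hd.2) with h | h
    · have he : cent (c⁻¹ * u * c * y) = cent y :=
        eq_of_le_of_cl (hinf ▸ inf_le_right) (by rw [h, P.hym])
      exact hB.trans (he ▸ hinf ▸ inf_le_left)
    · obtain ⟨l, -, he⟩ := hu _ hc hut' h
      have h1 : B ≤ cent (c⁻¹ * u * c * y) := by
        rw [he]; exact hpair (isPEl_conj P.hx l) ((cl_conj x l).trans P.hxn) (hconjB l)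
      exact h1.trans (hinf ▸ inf_le_left)
  -- all `π(m)`-elements of `C(y)` are in `M`
  have hsM : ∀ (s : ℕ), s.Prime → s ∣ m → ∀ v ∈ cent y, IsPEl s v → v ∈ M := by
    intro s hs hsm v hv hvs
    by_cases hvZ : v ∈ center G
    · exact center_le_centralizer _ hvZ
    haveI := Fact.mk hs
    have hxy : B ≤ cent (x * y) := hpair P.hx P.hxn fun b hb =>
      P.closure_comm S (subset_normalClosure rfl) hb
    have hco0 := coprime_primary P.hp P.hq (S.ne_of_dvd P.hq hqn hpm).symm P.hx P.hy
    have hd0 := cent_mul_dvd P.comm hco0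
    have hnm0 : cl (x * y) = n * m := S.eq_nm (P.hxn ▸ hd0.1) (P.hym ▸ hd0.2)
    have hle0 : cent (x * y) ≤ cent y := cent_mul_coprime P.comm hco0 ▸ inf_le_right
    have hidx : ((cent (x * y)).subgroupOf (cent y)).index = n := by
      have := relIndex_mul_index hle0
      rw [show (cent (x * y)).index = n * m from hnm0, show (cent y).index = m from P.hym] at this
      exact Nat.eq_of_mul_eq_mul_right (show 0 < m by have := S.hm; omega) this
    obtain ⟨b, hb⟩ := isPEl_orderOf hs hvs
    obtain ⟨l, hl⟩ := exists_conj_mem hs (d := (⟨v, hv⟩ : cent y))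
      (by rw [orderOf_mk]; exact hb) (H := (cent (x * y)).subgroupOf (cent y))
      (by rw [hidx]; exact fun h => S.not_dvd_m hs h hsm)
    suffices h : (l : G)⁻¹ * v * l ∈ M by
      have := hMn.conj_mem _ h l
      rwa [show (l : G) * ((l : G)⁻¹ * v * l) * (l : G)⁻¹ = v by group] at this
    set v' := (l : G)⁻¹ * v * l
    have hv' : v' ∈ cent (x * y) := mem_subgroupOf.1 hl
    have hv's : IsPEl s v' := by simpa [v'] using isPEl_conj hvs (l : G)⁻¹
    have hv'Z : v' ∉ center G := fun h => hvZ (by
      have := (inferInstance : (center G).Normal).conj_mem _ h (l : G)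
      rwa [show (l : G) * ((l : G)⁻¹ * v * l) * (l : G)⁻¹ = v by group] at this)
    have hv'y : v' * y = y * v' := (mem_cent.1 (hle0 hv')).symm
    refine mem_M ?_
    by_cases hsp : s = p
    · -- a `t`-element of `C(x y)` with the same centraliser
      obtain ⟨u, huy, hut, hunm⟩ : ∃ u ∈ cent y, IsPEl t u ∧ cl (u * y) = n * m := by
        by_contra! hall
        obtain ⟨T, hT⟩ := Transfer.exists_sylow_le_centralizer (p := t) y (by
          show ¬ t ∣ cl y; rw [P.hym]; exact htm)
        refine T.not_dvd_index ((P.hxn ▸ htn : t ∣ cl x).trans (index_dvd_of_le fun a ha => ?_))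
        have hay : a * y = y * a := (mem_cent.1 (hT ha)).symm
        have hco := coprime_primary ht.out P.hq htq (isPEl_of_mem T.2 ha) P.hy
        have hinf := cent_mul_coprime hay hco
        have hd := cent_mul_dvd hay hco
        rcases S.m_or_nm (P.hym ▸ hd.2) with h | h
        · have he : cent (a * y) = cent y :=
            eq_of_le_of_cl (hinf ▸ inf_le_right) (by rw [h, P.hym])
          have h2 : cent y ≤ cent a := he ▸ hinf ▸ inf_le_left
          exact cent_comm.1 (h2 (mem_cent.2 P.comm.symm))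
        · exact absurd h (hall a (hT ha) (isPEl_of_mem T.2 ha))
      obtain ⟨k, hk, he⟩ := hu u huy hut hunm
      have hky : k⁻¹ * y * k = y := by simpa using conj_eq_of_mem (inv_mem hk)
      set u' := k⁻¹ * u * k
      have hu't : IsPEl t u' := by simpa [u'] using isPEl_conj hut k⁻¹
      have hu'nm : cl (u' * y) = n * m := by
        rw [show u' * y = k⁻¹ * (u * y) * k⁻¹⁻¹ by
          conv_lhs => rw [← hky]
          simp only [u']; group, cl_conj, hunm]
      have hu'c : u' ∈ cent (x * y) := by
        have h1 : u ∈ cent (k * x * k⁻¹ * y) := by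
          rw [← he]
          exact mem_cent.2 (Commute.mul_left (Commute.refl u) (mem_cent.1 huy)).eq
        have h2 := commute_conj (c := k⁻¹) (mem_cent.1 h1)
        rw [inv_inv, show k⁻¹ * (k * x * k⁻¹ * y) * k = x * (k⁻¹ * y * k) by group, hky] at h2
        exact mem_cent.2 h2
      have hu'y : u' * y = y * u' := (mem_cent.1 (hle0 hu'c)).symm
      have hinf := cent_mul_coprime hu'y (coprime_primary ht.out P.hq htq hu't P.hy)
      have he' : cent (u' * y) = cent (x * y) := by
        obtain ⟨k', -, he'⟩ := hu u' (hle0 hu'c) hu't hu'nm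
        refine S.cent_eq_pair P.hy P.hym P.hq P.hp P.hx P.hxn P.comm hu'nm ?_ (hinf ▸ inf_le_right)
        refine S.max_le hu'nm ?_ (S.coprime_pi (piEl_mul ht.out htn P.hq hqn hu'y hu't P.hy)
          (piEl_of_isPEl P.hp hpm P.hx))
        have h3 : Commute u' (x * y) := (mem_cent.1 hu'c).symm
        have h4 : Commute u' x := by
          have := h3.mul_right (show Commute u' y from hu'y).inv_right
          rwa [mul_inv_cancel_right] at this
        exact (h4.mul_left (show Commute y x from P.comm.symm)).eq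
      have h5 : cent (u' * y) ≤ cent v' := by
        refine S.max_le hu'nm ?_ (S.coprime_pi (piEl_mul ht.out htn P.hq hqn hu'y hu't P.hy)
          (piEl_of_isPEl hs hsm hv's))
        exact mem_cent.1 (he'.ge hv')
      exact hxy.trans (he'.ge.trans h5)
    · have hn' : n ∣ cl v' := S.n_dvd (piEl_of_isPEl hs hsm hv's) hv'Z
      have hco := coprime_primary hs P.hq (S.ne_of_dvd P.hq hqn hsm).symm hv's P.hy
      have hd := cent_mul_dvd hv'y hco
      have hinf := cent_mul_coprime hv'y hco
      have hnm : cl (v' * y) = n * m := S.eq_nm (hn'.trans hd.1) (P.hym ▸ hd.2)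
      have hle : cent (v' * y) ≤ cent x := by
        refine S.max_le hnm ?_ (Nat.coprime_of_dvd fun r hr h1 h2 => ?_)
        · have h3 : Commute v' (x * y) := (mem_cent.1 hv').symm
          have h4 : Commute v' x := by
            have := h3.mul_right (show Commute v' y from hv'y).inv_right
            rwa [mul_inv_cancel_right] at this
          exact (h4.mul_left (show Commute y x from P.comm.symm)).eq
        · obtain ⟨bx, hbx⟩ := isPEl_orderOf P.hp P.hx
          rw [hbx] at h2
          have hrp := (Nat.prime_dvd_prime_iff_eq hr P.hp).1 (hr.dvd_of_dvd_pow h2)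
          subst hrp
          rcases hr.dvd_mul.1 (h1.trans
            (show Commute v' y from hv'y).orderOf_mul_dvd_mul_orderOf) with h | h
          · obtain ⟨b', hb'⟩ := isPEl_orderOf hs hv's
            rw [hb'] at h
            exact hsp ((Nat.prime_dvd_prime_iff_eq hr hs).1 (hr.dvd_of_dvd_pow h)).symm
          · exact S.not_dvd_m hr (piEl_of_isPEl P.hq hqn P.hy r hr h) hpm
      have he := S.cent_eq_pair P.hy P.hym P.hq P.hp P.hx P.hxn P.comm hnm hle
        (hinf ▸ inf_le_right)
      exact hxy.trans (he.ge.trans (hinf ▸ inf_le_left))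
  -- the contradiction
  obtain ⟨s, hs, hsm⟩ := Nat.exists_prime_and_dvd S.hm.ne'
  haveI := Fact.mk hs
  obtain ⟨Sy⟩ := (inferInstance : Nonempty (Sylow s G))
  obtain ⟨w, hw, hwM⟩ : ∃ w ∈ (Sy : Subgroup G), w ∉ M := by
    by_contra! hall
    exact Sy.not_dvd_index ((P.hym ▸ hsm : s ∣ cl y).trans (index_dvd_of_le fun a ha =>
      hML (hall a ha)))
  have hws := isPEl_of_mem Sy.2 hw
  have hwZ : w ∉ center G := fun h => hwM (center_le_centralizer _ h)
  obtain ⟨u, huw, hut, huZ⟩ :=
    S.exists_commuting (t := t) htn (S.n_dvd (piEl_of_isPEl hs hsm hws) hwZ)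
  have huM := htM u hut
  have huy : u * y = y * u := (mem_cent.1 (hML huM)).symm
  have hco := coprime_primary ht.out P.hq htq hut P.hy
  have hinf := cent_mul_coprime huy hco
  obtain ⟨W, hW, hWs, hWc⟩ := exists_pp_subgroup s (cent (u * y))
  have hWM : W ≤ M ⊓ cent u := fun a ha => by
    have h1 := hW ha
    rw [hinf] at h1
    exact ⟨hsM s hs hsm a h1.2 (isPEl_of_mem hWs ha), h1.1⟩
  have hk : pp s (cent (u * y)) = pp s (cent u) := S.pp_eq hsm
    (P.hym ▸ (cent_mul_dvd huy hco).2) (S.m_dvd (piEl_of_isPEl ht.out htn hut) huZ)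
  set H := cent u
  have h6 : (⟨w, cent_comm.1 huw⟩ : H) ∈ M.subgroupOf H := by
    refine mem_of_normal (p := s) (C := M.subgroupOf H) (H := ⊤) le_top ?_
      (isPEl_subtype.2 hws) (mem_top _)
    have e1 : pp s (⊤ : Subgroup H) = pp s H := by rw [pp, pp, Nat.card_congr topEquiv.toEquiv]
    have e2 : pp s (M.subgroupOf H) = pp s (M ⊓ H : Subgroup G) := by
      rw [pp, pp, ← inf_subgroupOf_right M H,
        Nat.card_congr (subgroupOfEquivOfLe (inf_le_right : M ⊓ H ≤ H)).toEquiv]
    rw [e1, e2, ← hk, ← hWc]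
    exact card_le_pp hWM hWs
  exact hwM (mem_subgroupOf.1 h6)

end Cfsg.Agent.ClassSize.FourSizes
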