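import Cfsg.Agent.Lib.ClassSize.FourSizes.Bad

/-!
# Commuting elements of class sizes `n` and `m`

For such a pair the normal closures `A`, `B` commute; unless `y` lies in `A Z(G)`, an element of
`π(n)`-order of `A` may be altered in `A ∩ B` so as to centralise large `s`-subgroups of `C(y)`.
-/

set_option autoImplicit false
set_option linter.style.haveILetI false
set_option linter.unusedSectionVars false

namespace Cfsg.Agent.ClassSize.FourSizes

open Subgroup Cfsg.Agent.ClassSize.CoprimeTop Cfsg.Agent.ClassSize.TwoSteps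

variable {G : Type*} [Group G] [Finite G] {n m : ℕ}

/-- Commuting primary elements of class sizes `n` and `m`. -/
structure Pair (G : Type*) [Group G] (n m p q : ℕ) (x y : G) : Prop where
  hp : p.Prime
  hq : q.Prime
  hx : IsPEl p x
  hy : IsPEl q y
  hxn : cl x = n
  hym : cl y = m
  comm : x * y = y * x

variable {p q : ℕ} {x y : G}

theorem Pair.swap (P : Pair G n m p q x y) : Pair G m n q p y x :=
  ⟨P.hq, P.hp, P.hy, P.hx, P.hym, P.hxn, P.comm.symm⟩

/-- The normal closures commute. -/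
theorem Pair.closure_comm (P : Pair G n m p q x y) (S : AllBad G n m) {a b : G}
    (ha : a ∈ normalClosure ({x} : Set G)) (hb : b ∈ normalClosure ({y} : Set G)) :
    a * b = b * a := by
  have hle : normalClosure ({x} : Set G) ≤
      centralizer ((normalClosure ({y} : Set G) : Subgroup G) : Set G) := by
    refine (closure_le _).2 ?_
    intro x' hx'
    obtain ⟨w, rfl, hw⟩ := Group.mem_conjugatesOfSet_iff.1 hx'
    obtain ⟨c, rfl⟩ := isConj_iff.1 hw
    refine mem_centralizer_iff.2 fun b hb => ?_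
    refine (mem_cent.1 ((closure_le (cent (c * w * c⁻¹))).2 ?_ hb)).symm
    intro y' hy'
    obtain ⟨w', rfl, hw'⟩ := Group.mem_conjugatesOfSet_iff.1 hy'
    obtain ⟨d, rfl⟩ := isConj_iff.1 hw'
    exact mem_cent.2 (commute_all (by rw [P.hxn, P.hym]; exact S.hco) P.comm c d)
  exact (mem_centralizer_iff.1 (hle ha) b hb).symm

theorem le_centralizer_self {H : Subgroup G} (h : ∀ a ∈ H, ∀ b ∈ H, a * b = b * a) :
    H ≤ centralizer (H : Set G) := fun a ha =>
  mem_centralizer_iff.2 fun b hb => h b hb a ha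

/-- A normal closure centralising its generator is commutative. -/
theorem closure_comm_self {x : G} (h : normalClosure ({x} : Set G) ≤ cent x) {a b : G}
    (ha : a ∈ normalClosure ({x} : Set G)) (hb : b ∈ normalClosure ({x} : Set G)) :
    a * b = b * a := by
  have h2 : normalClosure ({x} : Set G) ≤ cent a := by
    refine (closure_le _).2 ?_
    intro x' hx'
    obtain ⟨w, rfl, hw⟩ := Group.mem_conjugatesOfSet_iff.1 hx'
    obtain ⟨c, rfl⟩ := isConj_iff.1 hw
    have h3 := h (normalClosure_normal.conj_mem a ha c⁻¹)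
    have h4 := commute_conj (c := c) (mem_cent.1 h3)
    rw [show c * (c⁻¹ * a * c⁻¹⁻¹) * c⁻¹ = a by group] at h4
    exact mem_cent.2 h4.symm
  exact mem_cent.1 (h2 hb)

/-- If `y ∈ A Z(G)` then `B` is commutative. -/
theorem Pair.comm_of_mem (P : Pair G n m p q x y) (S : AllBad G n m)
    (h : y ∈ normalClosure ({x} : Set G) ⊔ center G) {a b : G}
    (ha : a ∈ normalClosure ({y} : Set G)) (hb : b ∈ normalClosure ({y} : Set G)) :
    a * b = b * a := by
  refine closure_comm_self ((normalClosure_le_normal (Set.singleton_subset_iff.2 h)).trans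
    (sup_le (fun c hc => ?_) (center_le_cent y))) ha hb
  exact mem_cent.2 (P.closure_comm S hc (subset_normalClosure rfl)).symm

theorem isPEl_conj_iff {t : ℕ} {g c : G} : IsPEl t (c * g * c⁻¹) → IsPEl t g := fun h => by
  have := isPEl_conj h c⁻¹
  rwa [show c⁻¹ * (c * g * c⁻¹) * c⁻¹⁻¹ = g by group] at this

theorem piEl_mul {t : ℕ} (ht : t.Prime) (htn : t ∣ n) (hq : q.Prime) (hqn : q ∣ n) {a b : G}
    (hab : a * b = b * a) (ha : IsPEl t a) (hb : IsPEl q b) : PiEl n (a * b) := fun s hs hd =>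
  (hs.dvd_mul.1 (hd.trans (show Commute a b from hab).orderOf_mul_dvd_mul_orderOf)).elim
    (piEl_of_isPEl ht htn ha s hs) (piEl_of_isPEl hq hqn hb s hs)

/-- Splitting a product `u y` along a large `s`-subgroup of its centraliser. -/
theorem Pair.exists_split (P : Pair G n m p q x y) (S : AllBad G n m)
    (hyA : y ∉ normalClosure ({x} : Set G) ⊔ center G) {t : ℕ} (ht : t.Prime) (htn : t ∣ n)
    {u : G} (huA : u ∈ normalClosure ({x} : Set G)) (hut : IsPEl t u)
    {s : ℕ} [hs : Fact s.Prime] (hsm : s ∣ m) :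
    ∃ z ∈ normalClosure ({x} : Set G) ⊓ normalClosure ({y} : Set G), IsPEl t (u * z) ∧
      m ∣ cl (z⁻¹ * y) ∧ ∃ W : Subgroup G, IsPGroup s W ∧ W ≤ cent (u * z) ∧
        W ≤ cent (z⁻¹ * y) ∧ Nat.card W = pp s (cent (z⁻¹ * y)) := by
  set A := normalClosure ({x} : Set G)
  set B := normalClosure ({y} : Set G)
  have hqn := S.hM q y P.hq P.hy P.hym
  have hyB : y ∈ B := subset_normalClosure rfl
  have huy : u * y = y * u := P.closure_comm S huA hyB
  have hZ0 : ∀ a ∈ A ⊔ center G, y * a⁻¹ ∈ center G → False := fun a ha h => hyA (by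
    have := mul_mem (mem_sup_right h : y * a⁻¹ ∈ A ⊔ center G) ha
    rwa [inv_mul_cancel_right] at this)
  have huyZ : u * y ∉ center G := fun h => hZ0 u⁻¹ (inv_mem (mem_sup_left huA)) (by
    rwa [inv_inv, ← huy])
  have hm1 : m ∣ cl (u * y) := S.m_dvd (piEl_mul ht htn P.hq hqn huy hut P.hy) huyZ
  obtain ⟨W, hW, hWs, hWc⟩ := exists_pp_subgroup s (cent (u * y))
  by_cases htq : t = q
  swap
  · have hinf := cent_mul_coprime huy (coprime_primary ht P.hq htq hut P.hy)
    rw [hinf] at hW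
    refine ⟨1, one_mem _, by rwa [mul_one], by rw [inv_one, one_mul, P.hym], W, hWs, ?_, ?_, ?_⟩
    · rw [mul_one]; exact hW.trans inf_le_left
    · rw [inv_one, one_mul]; exact hW.trans inf_le_right
    · rw [inv_one, one_mul, hWc]; exact S.pp_eq hsm hm1 (P.hym ▸ dvd_rfl)
  subst htq
  -- the `q`-elements of `A ∩ B`
  let Zq : Subgroup G :=
    { carrier := {z | z ∈ A ⊓ B ∧ IsPEl t z}
      one_mem' := ⟨one_mem _, 0, by simp⟩
      mul_mem' := fun {a b} ha hb => ⟨mul_mem ha.1 hb.1,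
        isPEl_mul (P.closure_comm S ha.1.1 hb.1.2) ha.2 hb.2⟩
      inv_mem' := fun {a} ha => ⟨inv_mem ha.1, isPEl_inv ha.2⟩ }
  have hd : ∀ g ∈ cent (u * y), u⁻¹ * (g * u * g⁻¹) ∈ Zq := by
    intro g hg
    have e : g * u * g⁻¹ * (g * y * g⁻¹) = u * y := by
      rw [show g * u * g⁻¹ * (g * y * g⁻¹) = g * (u * y) * g⁻¹ by group, ← mem_cent.1 hg,
        mul_inv_cancel_right]
    have e2 : u⁻¹ * (g * u * g⁻¹) = y * (g * y * g⁻¹)⁻¹ := by
      rw [eq_mul_inv_iff_mul_eq, mul_assoc, e, inv_mul_cancel_left]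
    have hA : u⁻¹ * (g * u * g⁻¹) ∈ A :=
      mul_mem (inv_mem huA) (normalClosure_normal.conj_mem u huA g)
    have hB : u⁻¹ * (g * u * g⁻¹) ∈ B :=
      e2 ▸ mul_mem hyB (inv_mem (normalClosure_normal.conj_mem y hyB g))
    refine ⟨⟨hA, hB⟩, isPEl_mul ?_ (isPEl_inv hut) (isPEl_conj hut g)⟩
    have h3 : u * (u⁻¹ * (g * u * g⁻¹)) = u⁻¹ * (g * u * g⁻¹) * u := P.closure_comm S huA hB
    rw [mul_inv_cancel_left] at h3
    calc u⁻¹ * (g * u * g⁻¹) = u⁻¹ * (g * u * g⁻¹) * u * u⁻¹ := by group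
      _ = g * u * g⁻¹ * u⁻¹ := by rw [← h3]
  have hinv : ∀ (g : W) (w : {w : G // ∃ z ∈ Zq, w = u * z}),
      ∃ z ∈ Zq, (g : G) * (w : G) * (g : G)⁻¹ = u * z := by
    rintro g ⟨_, z, hz, rfl⟩
    refine ⟨u⁻¹ * ((g : G) * u * (g : G)⁻¹) * ((g : G) * z * (g : G)⁻¹), mul_mem (hd g (hW g.2))
      ⟨?_, isPEl_conj hz.2 g⟩, by simp [mul_assoc]⟩
    exact (inferInstance : (A ⊓ B).Normal).conj_mem z hz.1 g
  letI : MulAction W {w : G // ∃ z ∈ Zq, w = u * z} :=
    { smul := fun g w => ⟨(g : G) * (w : G) * (g : G)⁻¹, hinv g w⟩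
      one_smul := fun w => Subtype.ext (by
        show ((1 : W) : G) * (w : G) * ((1 : W) : G)⁻¹ = (w : G)
        simp)
      mul_smul := fun g h w => Subtype.ext (by
        show ((g * h : W) : G) * (w : G) * ((g * h : W) : G)⁻¹ =
          (g : G) * ((h : G) * (w : G) * (h : G)⁻¹) * (g : G)⁻¹
        simp [mul_assoc]) }
  have hcard : Nat.card {w : G // ∃ z ∈ Zq, w = u * z} = Nat.card Zq := by
    refine Nat.card_congr (Equiv.symm (Equiv.ofBijective (fun z : Zq => ⟨u * z, z, z.2, rfl⟩)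
      ⟨fun a b e => Subtype.ext (mul_left_cancel (congrArg Subtype.val e)), ?_⟩))
    rintro ⟨_, z, hz, rfl⟩
    exact ⟨⟨z, hz⟩, rfl⟩
  haveI : Fact t.Prime := ⟨ht⟩
  have hZq : IsPGroup t Zq := fun z => by
    obtain ⟨k, hk⟩ := z.2.2
    exact ⟨k, Subtype.ext (by simpa using hk)⟩
  obtain ⟨⟨_, z, hz, rfl⟩, hfix⟩ := hWs.nonempty_fixed_point_of_prime_not_dvd_card
    {w : G // ∃ z ∈ Zq, w = u * z} (by
      obtain ⟨k, hk⟩ := IsPGroup.iff_card.1 hZq
      rw [hcard, hk]
      exact fun h => (S.ne_of_dvd ht htn hsm) ((Nat.prime_dvd_prime_iff_eq hs.out ht).1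
        (hs.out.dvd_of_dvd_pow h)).symm)
  have hz0 : u * z * (z⁻¹ * y) = u * y := by group
  have hWz : W ≤ cent (u * z) := fun g hg => mem_cent.2 (by
    have h1 : g * (u * z) * g⁻¹ = u * z := congrArg Subtype.val (hfix ⟨g, hg⟩)
    exact (mul_inv_eq_iff_eq_mul.1 h1).symm)
  have hWy : W ≤ cent (z⁻¹ * y) := fun g hg => mem_cent.2 (by
    have h1 : Commute (u * y) g := mem_cent.1 (hW hg)
    have h2 : Commute (u * z) g := mem_cent.1 (hWz hg)
    rw [show z⁻¹ * y = (u * z)⁻¹ * (u * y) by group]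
    exact (h2.inv_left.mul_left h1).eq)
  have hm2 : m ∣ cl (z⁻¹ * y) := by
    refine S.m_dvd (piEl_mul ht htn P.hq hqn (P.closure_comm S (inv_mem hz.1.1) hyB)
      (isPEl_inv hz.2) P.hy) fun h => hZ0 z (mem_sup_left hz.1.1) ?_
    have h3 := P.closure_comm S (inv_mem hz.1.1) hyB
    rwa [← h3]
  refine ⟨z, hz.1, isPEl_mul (P.closure_comm S huA hz.1.2) hut hz.2, hm2, W, hWs, hWz, hWy, ?_⟩
  rw [hWc]
  exact S.pp_eq hsm hm1 hm2

/-- If `B` is not commutative and `y ∉ A Z(G)`, then `A` is commutative. -/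
theorem Pair.dichotomy (P : Pair G n m p q x y) (S : AllBad G n m)
    (hyA : y ∉ normalClosure ({x} : Set G) ⊔ center G)
    (hB : ¬ normalClosure ({y} : Set G) ≤ cent y) :
    normalClosure ({x} : Set G) ≤ cent x := by
  set A := normalClosure ({x} : Set G)
  set B := normalClosure ({y} : Set G)
  obtain ⟨s, hs, hsb⟩ := Nat.exists_prime_and_dvd (fun h => hB (relIndex_eq_one.1 h) :
    (cent y).relIndex B ≠ 1)
  haveI := Fact.mk hs
  have hsm : s ∣ m := P.hym ▸ hsb.trans (PrimeParts.relIndex_dvd_index_of_normal' (cent y) B)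
  suffices h : ∀ t, t.Prime → t ∣ n → ∀ u ∈ A, IsPEl t u → u ∈ cent x by
    refine relIndex_eq_one.1 (by_contra fun hne => ?_)
    obtain ⟨t, ht, htd⟩ := Nat.exists_prime_and_dvd hne
    haveI := Fact.mk ht
    have htn : t ∣ n := P.hxn ▸ htd.trans (PrimeParts.relIndex_dvd_index_of_normal' (cent x) A)
    obtain ⟨T⟩ := (inferInstance : Nonempty (Sylow t A))
    refine T.not_dvd_index (htd.trans (index_dvd_of_le fun a ha => ?_))
    exact mem_subgroupOf.2 (h t ht htn a a.2 (isPEl_subtype.1 (isPEl_of_mem T.2 ha)))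
  intro t ht htn u huA hut
  obtain ⟨z, hz, huz, hm2, W, hWs, hWu, hWy, hWc⟩ := P.exists_split S hyA ht htn huA hut hsm
  have hzx : z ∈ cent x := mem_cent.2 (P.closure_comm S (subset_normalClosure rfl) hz.2)
  by_cases hc : u * z ∈ center G
  · have := mul_mem (center_le_cent x hc) (inv_mem hzx)
    rwa [mul_inv_cancel_right] at this
  exfalso
  have huzA : u * z ∈ A := mul_mem huA hz.1
  have hBH : B ≤ cent (u * z) := fun b hb => mem_cent.2 (P.closure_comm S huzA hb)
  set H := cent (u * z)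
  set K := H ⊓ cent (z⁻¹ * y) with hK
  have hrel : K.relIndex B = (cent y).relIndex B := by
    rw [← inf_relIndex_right, ← inf_relIndex_right (H := cent y)]
    congr 1
    ext b
    constructor
    · rintro ⟨⟨-, hb⟩, hbB⟩
      refine ⟨mem_cent.2 ?_, hbB⟩
      have h1 : Commute (z⁻¹ * y) b := mem_cent.1 hb
      have h2 : Commute z b := P.closure_comm S hz.1 hbB
      have h3 := h2.mul_left h1
      rw [mul_inv_cancel_left] at h3
      exact h3.eq
    · rintro ⟨hb, hbB⟩
      exact ⟨⟨hBH hbB, mem_cent.2 ((Commute.inv_left (P.closure_comm S hz.1 hbB)).mul_left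
        (mem_cent.1 hb)).eq⟩, hbB⟩
  have hsK : s ∣ K.relIndex H := by
    refine (hrel ▸ hsb).trans ?_
    haveI : (B.subgroupOf H).Normal := inferInstance
    have := PrimeParts.relIndex_dvd_index_of_normal' (K.subgroupOf H) (B.subgroupOf H)
    rwa [relIndex_subgroupOf hBH] at this
  have hW : Nat.card W ≤ pp s K := card_le_pp (le_inf hWu hWy) hWs
  have hH : pp s H = Nat.card W := hWc ▸ S.pp_eq hsm (S.m_dvd (piEl_of_isPEl ht htn huz) hc) hm2
  have hcard : Nat.card K * K.relIndex H = Nat.card H := by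
    rw [relIndex, ← Nat.card_congr (subgroupOfEquivOfLe (inf_le_left : K ≤ H)).toEquiv,
      card_mul_index]
  have hfac : pp s K * s ∣ Nat.card H := hcard ▸ mul_dvd_mul (pp_dvd s K) hsK
  rw [pp, ← pow_succ] at hfac
  have h1 := (hs.pow_dvd_iff_le_factorization Nat.card_pos.ne').1 hfac
  rw [← hH, pp, pp] at hW
  have h2 := (Nat.pow_le_pow_iff_right hs.one_lt).1 hW
  omega

end Cfsg.Agent.ClassSize.FourSizes
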